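import Mathlib.GroupTheory.Sylow
import Cfsg.Agent.H199.PslField
import Cfsg.Agent.LieRecognition.FieldSemilinear
import Cfsg.Agent.H618.AO.Lay
import Cfsg.Agent.H966.PSpAut
import Cfsg.Agent.ClassicalGeometry.SympAutOddA
import Cfsg.Agent.S0245
import Cfsg.Agent.H967.FaChev
import Cfsg.Agent.S1065
import Cfsg.Agent.S1054
import Cfsg.Agent.S1055
import Cfsg.Agent.S2125
import Mathlib
import Cfsg.Agent.H808.RV.FTw_m3
import Cfsg.Agent.H967.CopMat
import Cfsg.Agent.S1066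
import Cfsg.Agent.ChevalleyStructure.D4H1
import Cfsg.Agent.H166.OutTwESix
import Cfsg.Agent.H967.CopD4_m3
import Cfsg.Agent.H565.CopTw
import Cfsg.Agent.S2130
import Cfsg.Agent.H454.PiBS.Panel
import Cfsg.Agent.H553.OddHall_m3
import Cfsg.Agent.H967.SimpleIrr
import Cfsg.Agent.H388.EvenFixSylow
import Cfsg.Agent.S0320
import Cfsg.Agent.H716.SplitAb
import Cfsg.Agent.FastGrp
import Cfsg.Agent.Prune
set_option linter.all false
prune_inst 0x7ffcfef8afb82fffdfff7e7ffedddfffb9f0ffffffdffb7bbfeca1ef8fdf6b02f9e57b897feb48fe2ec3629620f87bd3f9ffca3fec6bdc7ffffd5ff45ffbff8fedf7bd8811d688340fbc0fff03f1778e7f3fffffffffffffffffffffffffffbeffffffffffff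
open scoped Cfsg.Agent.FastGrp

-- part: H805/RV/Fld
section
/-!
# Field automorphisms of odd order (helper805, for S4311 + S3851)

* `exists_fix` : a finite field `F` has an automorphism `σ₀` of odd order `d` with fixed field `K`, `|F| = |K| ^ d`,
  such that the `2 ^ a`-th power of every automorphism is a power of `σ₀`;
* `exists_odd` : `x ^ d - 1 = c (x - 1)` with `c` odd (`x`, `d` odd);
* `image_sylow` : the image of a Sylow `2`-subgroup under an injective homomorphism with odd index ratio.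
-/

set_option autoImplicit false

namespace Cfsg.Agent.H805.RV

/-- The automorphisms of odd order of a finite field and their fixed field. -/
theorem exists_fix (F : Type*) [Field F] [Fintype F] :
    ∃ (σ₀ : F ≃+* F) (K : Subfield F) (a : ℕ), Odd (orderOf σ₀) ∧ (∀ x, x ∈ K ↔ σ₀ x = x) ∧
      Nat.card F = Nat.card K ^ orderOf σ₀ ∧ (∀ σ : F ≃+* F, σ ^ 2 ^ a ∈ Subgroup.zpowers σ₀) ∧
      ∀ σ ∈ Subgroup.zpowers σ₀, ∀ x ∈ K, σ x = x := by
  have : Finite (F ≃+* F) := DFunLike.finite _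
  have hc : IsCyclic (F ≃+* F) := Cfsg.Agent.LieRecognition.FieldSemilinear.isCyclic_ringAut F
  obtain ⟨γ, hγ⟩ := IsCyclic.exists_generator (α := F ≃+* F)
  obtain ⟨a, d, hd, ho⟩ := Nat.exists_eq_two_pow_mul_odd (n := orderOf γ) (orderOf_pos γ).ne'
  obtain ⟨K, hK, hcard⟩ := Cfsg.Agent.H199.PslField.card_fix (γ ^ 2 ^ a)
  have hod : orderOf (γ ^ 2 ^ a) = d := by
    rw [orderOf_pow_of_dvd (pow_ne_zero _ two_ne_zero) (ho ▸ dvd_mul_right _ _), ho]
    exact Nat.mul_div_cancel_left d (Nat.two_pow_pos a)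
  refine ⟨γ ^ 2 ^ a, K, a, by rw [hod]; exact hd, hK, hcard.symm, fun σ => ?_, fun σ hσ x hx => ?_⟩
  · obtain ⟨j, rfl⟩ := hγ σ
    refine ⟨j, ?_⟩
    show (γ ^ 2 ^ a) ^ j = (γ ^ j) ^ 2 ^ a
    rw [← zpow_natCast, ← zpow_natCast, ← zpow_mul, ← zpow_mul, mul_comm]
  · have h1 : Subgroup.zpowers (γ ^ 2 ^ a) ≤ MulAction.stabilizer (F ≃+* F) x := by
      rw [Subgroup.zpowers_le]
      exact (hK x).1 hx
    exact h1 hσ

theorem exists_odd {x d : ℕ} (hx : Odd x) (hd : Odd d) : ∃ c, Odd c ∧ x ^ d - 1 = c * (x - 1) := by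
  refine ⟨∑ i ∈ Finset.range d, x ^ i, ?_, ?_⟩
  · rw [Finset.odd_sum_iff_odd_card_odd]
    have : (Finset.range d).filter (fun i => Odd (x ^ i)) = Finset.range d :=
      Finset.filter_true_of_mem fun i _ => hx.pow
    rw [this, Finset.card_range]
    exact hd
  · have h1 : 1 ≤ x := hx.pos
    obtain ⟨w, rfl⟩ := Nat.exists_eq_add_of_le h1
    have h2 := geom_sum_mul_add w d
    rw [add_comm 1 w, ← h2]
    simp only [_root_.add_tsub_cancel_right]

/-- `x ^ (d k) - 1 = c (x ^ k - 1)` -/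
theorem exists_odd' {x d : ℕ} (k : ℕ) (hx : Odd x) (hd : Odd d) : ∃ c, Odd c ∧ (x ^ d) ^ k - 1 = c * (x ^ k - 1) := by
  obtain ⟨c, hc, h⟩ := exists_odd (x := x ^ k) hx.pow hd
  refine ⟨c, hc, ?_⟩
  rw [← h, ← pow_mul, ← pow_mul, mul_comm]

/-- A product of such factors. -/
theorem exists_odd_prod {ι : Type*} (s : Finset ι) {f g : ι → ℕ} (h : ∀ i ∈ s, ∃ c, Odd c ∧ f i = c * g i) :
    ∃ c, Odd c ∧ ∏ i ∈ s, f i = c * ∏ i ∈ s, g i := by
  classical
  induction s using Finset.induction_on with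
  | empty => exact ⟨1, odd_one, by simp⟩
  | insert a s ha ih =>
    obtain ⟨c, hc, h1⟩ := ih fun i hi => h i (Finset.mem_insert_of_mem hi)
    obtain ⟨e, he, h2⟩ := h a (Finset.mem_insert_self a s)
    refine ⟨e * c, he.mul hc, ?_⟩
    rw [Finset.prod_insert ha, Finset.prod_insert ha, h1, h2]
    ring

/-- The image of a Sylow 2-subgroup under an injective homomorphism `f` with `|B| = c |A|`, `c` odd, followed by a
surjective one. -/
theorem image_sylow {A B C : Type*} [Group A] [Group B] [Group C] [Finite A] [Finite B] (f : A →* B)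
    (hf : Function.Injective f) {c : ℕ} (hc : Odd c) (hcard : Nat.card B = c * Nat.card A) (g : B →* C)
    (hg : Function.Surjective g) (P : Sylow 2 A) :
    ∃ Q : Sylow 2 C, ∀ x ∈ Q, ∃ a : A, g (f a) = x := by
  have h1 : ((P : Subgroup A).map f).index = c * (P : Subgroup A).index := by
    have h2 := (P : Subgroup A).index_mul_card
    have h3 := ((P : Subgroup A).map f).index_mul_card
    have h4 : Nat.card ((P : Subgroup A).map f) = Nat.card P :=
      (Nat.card_congr ((P : Subgroup A).equivMapOfInjective f hf).toEquiv).symm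
    rw [h4, hcard, ← h2, ← mul_assoc] at h3
    exact Nat.eq_of_mul_eq_mul_right Nat.card_pos h3
  have h5 : ¬ 2 ∣ (((P : Subgroup A).map f).map g).index := by
    intro hd
    have h6 := hd.trans (Subgroup.index_map_dvd _ hg)
    rw [h1] at h6
    rcases (Nat.prime_two.dvd_mul).1 h6 with h7 | h7
    · exact (Nat.not_even_iff_odd.2 hc) (even_iff_two_dvd.2 h7)
    · exact P.not_dvd_index h7
  refine ⟨((P.isPGroup'.map f).map g).toSylow h5, fun x hx => ?_⟩
  obtain ⟨_, ⟨a, _, rfl⟩, rfl⟩ := hx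
  exact ⟨a, rfl⟩

/-- A quotient with an abelian normal subgroup and an abelian quotient is solvable. -/
theorem isSolvable_of_layers {A : Type*} [Group A] (I D : Subgroup A) [I.Normal]
    (h1 : ∀ φ ψ : A, φ * ψ * φ⁻¹ * ψ⁻¹ ∈ D) (h2 : ∀ φ ∈ D, ∀ ψ ∈ D, φ * ψ * φ⁻¹ * ψ⁻¹ ∈ I) :
    Group.IsSolvable (A ⧸ I) := by
  refine ⟨2, ?_⟩
  have hc1 : derivedSeries (A ⧸ I) 1 ≤ D.map (QuotientGroup.mk' I) := by
    rw [derivedSeries_succ, derivedSeries_zero, Subgroup.commutator_le]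
    intro x _ y _
    obtain ⟨φ, rfl⟩ := QuotientGroup.mk'_surjective I x
    obtain ⟨ψ, rfl⟩ := QuotientGroup.mk'_surjective I y
    exact ⟨_, h1 φ ψ, by simp only [commutatorElement_def, _root_.QuotientGroup.mk'_apply, _root_.QuotientGroup.mk_mul, _root_.QuotientGroup.mk_inv]⟩
  rw [derivedSeries_succ, eq_bot_iff, Subgroup.commutator_le]
  intro x hx y hy
  obtain ⟨φ, hφ, rfl⟩ := hc1 hx
  obtain ⟨ψ, hψ, rfl⟩ := hc1 hy
  rw [Subgroup.mem_bot, ← map_commutatorElement]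
  exact (QuotientGroup.eq_one_iff _).2 (h2 φ hφ ψ hψ)

end Cfsg.Agent.H805.RV
end

-- part: H805/RV/PSp
section
/-!
# `AutOdd` for the symplectic groups (helper805, for S4311 + S3851)

`autOdd_psp` : an automorphism of odd order of `PSp m F` (`F` odd, `m ≥ 2`) centralises a given Sylow `2`-subgroup after
multiplication with an inner automorphism.
-/

set_option autoImplicit false

namespace Cfsg.Agent.H805.RV.PSp

open Cfsg Cfsg.Agent.H561.RV
open Cfsg.Agent.ClassicalGeometry.SympBasic Cfsg.Agent.ClassicalGeometry.SympAutSemi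
  Cfsg.Agent.ClassicalGeometry.SympGamma Cfsg.Agent.H966.PSpAut

universe u

section semi

variable {F : Type u} [Field F] {m : ℕ}

/-- the field automorphism of a semisimilitude -/
def Fp (g : semiSim m F) (σ : F ≃+* F) : Prop := ∃ l : F, l ≠ 0 ∧ IsSemi g.1 σ l

theorem exists_Fp (g : semiSim m F) : ∃ σ, Fp g σ := g.2

theorem Fp.mul {g h : semiSim m F} {σ τ : F ≃+* F} (hg : Fp g σ) (hh : Fp h τ) : Fp (g * h) (σ * τ) := by
  obtain ⟨l, hl, h1⟩ := hg
  obtain ⟨k, hk, h2⟩ := hh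
  exact ⟨_, mul_ne_zero hl (by simpa using hk), h1.mul h2⟩

theorem Fp.inv {g : semiSim m F} {σ : F ≃+* F} (hg : Fp g σ) : Fp g⁻¹ σ⁻¹ := by
  obtain ⟨l, hl, h1⟩ := hg
  exact ⟨_, by simpa using hl, h1.inv hl⟩

theorem fp_one : Fp (1 : semiSim m F) 1 := ⟨1, one_ne_zero, H966.PSpField.isSemi_one⟩

theorem Fp.pow {g : semiSim m F} {σ : F ≃+* F} (hg : Fp g σ) (n : ℕ) : Fp (g ^ n) (σ ^ n) := by
  induction n with
  | zero => exact fp_one
  | succ n ih => rw [pow_succ, pow_succ]; exact ih.mul hg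

theorem mem_D {g : semiSim m F} (hg : Fp g 1) : Psi m F g ∈ inndiagPSp m F := by
  obtain ⟨l, hl, h⟩ := hg
  exact mem_inndiag.2 ⟨g, ⟨l, hl, h⟩, rfl⟩

theorem of_mem_D {β : MulAut (PSp m F)} (h : β ∈ inndiagPSp m F) : ∃ g : semiSim m F, Fp g 1 ∧ Psi m F g = β := by
  obtain ⟨g, ⟨l, hl, h1⟩, h2⟩ := mem_inndiag.1 h
  exact ⟨g, ⟨l, hl, h1⟩, h2⟩

/-- the standard field automorphism -/
noncomputable def Th (m : ℕ) (F : Type u) [Field F] : (F ≃+* F) →* MulAut (PSp m F) :=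
  (Psi m F).comp
    { toFun := fun σ => ⟨frobPerm m σ, σ, 1, one_ne_zero, isSemi_frobPerm σ⟩
      map_one' := rfl
      map_mul' := fun _ _ => rfl }

theorem Th_eq (σ : F ≃+* F) : ∃ g : semiSim m F, Fp g σ ∧ Psi m F g = Th m F σ :=
  ⟨⟨frobPerm m σ, σ, 1, one_ne_zero, isSemi_frobPerm σ⟩, ⟨1, one_ne_zero, isSemi_frobPerm σ⟩, rfl⟩

theorem Th_apply {σ : F ≃+* F} {s s' : Matrix.symplecticGroup (Fin m) F}
    (h : (s' : Matrix (Fin m ⊕ Fin m) (Fin m ⊕ Fin m) F) = (s : Matrix (Fin m ⊕ Fin m) (Fin m ⊕ Fin m) F).map σ) :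
    Th m F σ (QuotientGroup.mk s) = QuotientGroup.mk s' :=
  (eq_Psi_frob (σ := σ) (β := Th m F σ)).2 rfl s s' h

/-- a similitude with multiplier a square of `e` is inner modulo scalars -/
theorem inn_of_sq {h : Equiv.Perm (Fin m ⊕ Fin m → F)} {e : F} (he : e ≠ 0)
    (hh : IsSemi h (RingEquiv.refl F) (e * e)) (hmem : h ∈ semiSim m F) :
    Psi m F ⟨h, hmem⟩ ∈ Inn (PSp m F) := by
  have h3 := (isSemi_scal (m := m) (Units.mk0 e he)⁻¹).mul hh
  obtain ⟨A, hA⟩ := exists_rho_eq (scal m F (Units.mk0 e he)⁻¹ * h) h3.1 h3.2.1 (by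
    intro u v
    rw [h3.2.2]
    have : ((((Units.mk0 e he)⁻¹ : Fˣ) : F) * ((Units.mk0 e he)⁻¹ : Fˣ) * (RingEquiv.refl F) (e * e)) = 1 := by
      change (((Units.mk0 e he)⁻¹ : Fˣ) : F) * ((Units.mk0 e he)⁻¹ : Fˣ) * (e * e) = 1
      rw [Units.val_inv_eq_inv_val, Units.val_mk0]
      field_simp
    rw [this, one_mul]
    rfl)
  have hs : scal m F (Units.mk0 e he) ∈ semiSim m F :=
    ⟨RingEquiv.refl F, _, mul_ne_zero (Units.ne_zero _) (Units.ne_zero _), isSemi_scal _⟩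
  have hr : rho m F A ∈ semiSim m F := ⟨RingEquiv.refl F, 1, one_ne_zero, isSemi_rho A⟩
  refine ⟨QuotientGroup.mk A, ?_⟩
  rw [← Psi_rho A hr]
  have h4 : (⟨h, hmem⟩ : semiSim m F) = ⟨scal m F (Units.mk0 e he), hs⟩ * ⟨rho m F A, hr⟩ := by
    apply Subtype.ext
    change h = scal m F (Units.mk0 e he) * rho m F A
    rw [hA, ← mul_assoc]
    ext1 v
    rw [Equiv.Perm.mul_apply, Equiv.Perm.mul_apply, scal_apply, scal_apply, smul_smul,
      ← Units.val_mul, mul_inv_cancel, Units.val_one, one_smul]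
  rw [h4, map_mul, Psi_scal, one_mul]

theorem inn_le : Inn (PSp m F) ≤ inndiagPSp m F := by
  rintro _ ⟨g, rfl⟩
  induction g using QuotientGroup.induction_on with
  | H A =>
    have hr : rho m F A ∈ semiSim m F := ⟨RingEquiv.refl F, 1, one_ne_zero, isSemi_rho A⟩
    exact mem_inndiag.2 ⟨⟨rho m F A, hr⟩, ⟨1, one_ne_zero, isSemi_rho A⟩, Psi_rho A hr⟩

theorem sq_mem_inn {δ : MulAut (PSp m F)} (h : δ ∈ inndiagPSp m F) : δ ^ 2 ^ 1 ∈ Inn (PSp m F) := by
  obtain ⟨g, ⟨l, hl, h1⟩, rfl⟩ := of_mem_D h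
  have h2 := h1.mul h1
  rw [pow_one, pow_two, ← map_mul]
  exact inn_of_sq (h := g.1 * g.1) hl h2 (g * g).2

theorem comm_mem_inn {φ ψ : MulAut (PSp m F)} (hφ : φ ∈ inndiagPSp m F) (hψ : ψ ∈ inndiagPSp m F) :
    φ * ψ * φ⁻¹ * ψ⁻¹ ∈ Inn (PSp m F) := by
  obtain ⟨g, ⟨l, hl, h1⟩, rfl⟩ := of_mem_D hφ
  obtain ⟨h, ⟨k, hk, h2⟩, rfl⟩ := of_mem_D hψ
  have h3 := ((h1.mul h2).mul (h1.inv hl)).mul (h2.inv hk)
  rw [← map_inv, ← map_inv, ← map_mul, ← map_mul, ← map_mul]
  refine inn_of_sq (h := g.1 * h.1 * g.1⁻¹ * h.1⁻¹) (e := 1) one_ne_zero ?_ (g * h * g⁻¹ * h⁻¹).2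
  have h4 : l * k * l⁻¹ * k⁻¹ = 1 * 1 := by field_simp
  rw [← h4]
  exact h3

end semi

section fin

variable {F : Type u} [Field F] [Fintype F] {m : ℕ}

theorem exists_psi (hm : 2 ≤ m) (h2 : (2 : F) ≠ 0) (α : MulAut (PSp m F)) : ∃ g, Psi m F g = α := by
  obtain ⟨g, hg⟩ := ClassicalGeometry.SympAutExists.exists_semi hm α
    (ClassicalGeometry.SympAutOddA.recog hm (Or.inr h2) α)
  exact ⟨g, hg⟩

theorem aut_comm (σ τ : F ≃+* F) : σ * τ = τ * σ := by
  have : IsCyclic (F ≃+* F) := Cfsg.Agent.LieRecognition.FieldSemilinear.isCyclic_ringAut F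
  obtain ⟨γ, hγ⟩ := IsCyclic.exists_generator (α := F ≃+* F)
  obtain ⟨i, rfl⟩ := hγ σ
  obtain ⟨j, rfl⟩ := hγ τ
  show γ ^ i * γ ^ j = γ ^ j * γ ^ i
  rw [← zpow_add, ← zpow_add, add_comm]

theorem comm_mem_D (hm : 2 ≤ m) (h2 : (2 : F) ≠ 0) (φ ψ : MulAut (PSp m F)) :
    φ * ψ * φ⁻¹ * ψ⁻¹ ∈ inndiagPSp m F := by
  obtain ⟨g, rfl⟩ := exists_psi hm h2 φ
  obtain ⟨h, rfl⟩ := exists_psi hm h2 ψ
  obtain ⟨σ, hσ⟩ := exists_Fp g
  obtain ⟨τ, hτ⟩ := exists_Fp h
  have h3 := ((hσ.mul hτ).mul hσ.inv).mul hτ.inv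
  have h4 : σ * τ * σ⁻¹ * τ⁻¹ = 1 := by
    rw [aut_comm σ τ]; group
  rw [h4] at h3
  rw [← map_inv, ← map_inv, ← map_mul, ← map_mul, ← map_mul]
  exact mem_D h3

/-- entrywise inclusion of the symplectic group over a subfield -/
def inc (m : ℕ) (K : Subfield F) : Matrix.symplecticGroup (Fin m) K →* Matrix.symplecticGroup (Fin m) F where
  toFun A := ⟨(A : Matrix (Fin m ⊕ Fin m) (Fin m ⊕ Fin m) K).map K.subtype, by
    have h1 := (SymplecticGroup.mem_iff).1 A.2
    rw [SymplecticGroup.mem_iff]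
    have h2 := congrArg (fun M : Matrix (Fin m ⊕ Fin m) (Fin m ⊕ Fin m) K => M.map K.subtype) h1
    have hJ : (Matrix.J (Fin m) K).map K.subtype = Matrix.J (Fin m) F := by
      ext i j
      rcases i with i | i <;> rcases j with j | j <;>
        simp only [Matrix.J, Matrix.one_apply, apply_ite (fun x : K => (x : F)), _root_.Subfield.coe_subtype, _root_.Matrix.map_apply, _root_.Matrix.fromBlocks_apply₁₁, _root_.Matrix.zero_apply, _root_.ZeroMemClass.coe_zero, _root_.Matrix.fromBlocks_apply₁₂, _root_.Matrix.neg_apply, _root_.NegMemClass.coe_neg, _root_.OneMemClass.coe_one, _root_.Matrix.fromBlocks_apply₂₁, _root_.Matrix.fromBlocks_apply₂₂]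
    simp only [Matrix.map_mul, Matrix.transpose_map, hJ] at h2
    exact h2⟩
  map_one' := by
    apply Subtype.ext
    show (1 : Matrix (Fin m ⊕ Fin m) (Fin m ⊕ Fin m) K).map K.subtype = 1
    exact Matrix.map_one _ (map_zero _) (map_one _)
  map_mul' A B := by
    apply Subtype.ext
    show ((A : Matrix (Fin m ⊕ Fin m) (Fin m ⊕ Fin m) K) * (B : Matrix (Fin m ⊕ Fin m) (Fin m ⊕ Fin m) K)).map
      K.subtype = _
    exact Matrix.map_mul

theorem inc_injective (K : Subfield F) : Function.Injective (inc (F := F) m K) := by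
  intro A B h
  have h1 := congrArg Subtype.val h
  apply Subtype.ext
  ext i j
  have h2 := congrFun (congrFun h1 i) j
  exact h2

theorem card_inc {K : Subfield F} {d : ℕ} (hd : Odd d) (hodd : Odd (Nat.card F)) (hc : Nat.card F = Nat.card K ^ d)
    (m : ℕ) : ∃ c, Odd c ∧ Nat.card (Matrix.symplecticGroup (Fin m) F) =
      c * Nat.card (Matrix.symplecticGroup (Fin m) K) := by
  have := Fintype.ofFinite K
  have hK : Odd (Nat.card K) := by
    by_contra hne
    rw [Nat.not_odd_iff_even] at hne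
    have : Even (Nat.card F) := by
      rw [hc]
      exact hne.pow_of_ne_zero hd.pos.ne'
    exact (Nat.not_even_iff_odd.2 hodd) this
  have h1 := S0245.result (F := F) rfl m
  have h2 := S0245.result (F := K) rfl m
  rw [← Nat.card_eq_fintype_card] at h1 h2
  obtain ⟨c, hcc, h3⟩ := exists_odd_prod (Finset.range m)
    (f := fun i => Nat.card F ^ (2 * (i + 1)) - 1) (g := fun i => Nat.card K ^ (2 * (i + 1)) - 1)
    (fun i _ => by rw [hc]; exact exists_odd' (2 * (i + 1)) hK hd)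
  refine ⟨Nat.card K ^ ((d - 1) * m ^ 2) * c, hK.pow.mul hcc, ?_⟩
  rw [h1, h2, h3]
  have h4 : Nat.card F ^ (m ^ 2) = Nat.card K ^ ((d - 1) * m ^ 2) * Nat.card K ^ (m ^ 2) := by
    rw [hc, ← pow_mul, ← pow_add]
    congr 1
    obtain ⟨e, he⟩ := Nat.exists_eq_succ_of_ne_zero hd.pos.ne'
    rw [he]
    simp only [Nat.succ_eq_add_one, Nat.add_sub_cancel]
    ring
  rw [h4]
  ring

end fin

/-- **Symplectic groups.** -/
theorem autOdd_psp {F : Type u} [Field F] [Fintype F] (hodd : Odd (Fintype.card F)) {m : ℕ} (hm : 2 ≤ m) :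
    AutOdd (PSp m F) := by
  have hodd' : Odd (Nat.card F) := by rwa [Nat.card_eq_fintype_card]
  have h2 : (2 : F) ≠ 0 := by
    intro h
    have h3 : ringChar F = 2 := by
      have h4 : ringChar F ∣ 2 := (ringChar.spec F 2).1 (by exact_mod_cast h)
      rcases (Nat.dvd_prime Nat.prime_two).1 h4 with h5 | h5
      · have := (ringChar.spec F 1).2 (by rw [h5])
        simp only [_root_.Nat.cast_one, _root_.one_ne_zero] at this
      · exact h5
    have h6 := FiniteField.even_card_of_char_two h3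
    have h7 : Fintype.card F % 2 = 1 := Nat.odd_iff.1 hodd
    omega
  obtain ⟨σ₀, K, a, hd, hK, hcard, hpow, hfix⟩ := exists_fix F
  have : Finite (Matrix.symplecticGroup (Fin m) F) := inferInstance
  have := Fintype.ofFinite K
  have : Finite (Matrix.symplecticGroup (Fin m) K) := inferInstance
  obtain ⟨c, hc, hcc⟩ := card_inc hd hodd' hcard m
  have hns : (inndiagPSp m F).Normal := inndiag_normal hm
  obtain ⟨P₀, hP₀⟩ := image_sylow (inc m K) (inc_injective K) hc hcc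
    (QuotientGroup.mk' (Subgroup.center (Matrix.symplecticGroup (Fin m) F))) (QuotientGroup.mk'_surjective _)
    (default : Sylow 2 (Matrix.symplecticGroup (Fin m) K))
  refine autOdd_of_layers ?_ P₀ ((Subgroup.zpowers σ₀).map (Th m F)) (inndiagPSp m F) ?_ inn_le
    (comm_mem_D hm h2) ?_ (Or.inl fun δ hδ => ⟨1, sq_mem_inn hδ⟩)
  · exact isSolvable_of_layers (Inn (PSp m F)) (inndiagPSp m F) (comm_mem_D hm h2)
      fun φ hφ ψ hψ => comm_mem_inn hφ hψ
  · rintro _ ⟨σ, hσ, rfl⟩ x hx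
    obtain ⟨A, rfl⟩ := hP₀ x hx
    refine Th_apply ?_
    ext i j
    show ((A : Matrix (Fin m ⊕ Fin m) (Fin m ⊕ Fin m) K) i j : F) =
      σ ((A : Matrix (Fin m ⊕ Fin m) (Fin m ⊕ Fin m) K) i j : F)
    exact (hfix σ hσ _ ((A : Matrix (Fin m ⊕ Fin m) (Fin m ⊕ Fin m) K) i j).2).symm
  · intro φ
    obtain ⟨g, rfl⟩ := exists_psi hm h2 φ
    obtain ⟨σ, hσ⟩ := exists_Fp g
    refine ⟨a, ?_⟩
    obtain ⟨g', hg', h'⟩ := Th_eq (m := m) (σ ^ 2 ^ a)
    have h3 : (Psi m F g) ^ 2 ^ a = Th m F (σ ^ 2 ^ a) * Psi m F (g'⁻¹ * g ^ 2 ^ a) := by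
      rw [map_mul, map_inv, h', mul_inv_cancel_left, map_pow]
    rw [h3]
    refine Subgroup.mul_mem _ (Subgroup.mem_sup_left ⟨_, hpow σ, rfl⟩) (Subgroup.mem_sup_right ?_)
    have h4 := hg'.inv.mul (hσ.pow (2 ^ a))
    rw [inv_mul_cancel] at h4
    exact mem_D h4

end Cfsg.Agent.H805.RV.PSp
end

-- part: H81/AoChev
section
/-!
# `AutOdd` for the Chevalley groups `G₂`, `F₄`, `E₇`, `E₈` in odd characteristic (helper81, task 4525)

* `autOdd_of_stab` : the criterion for a matrix group stable under the field automorphisms whose outer automorphism group has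
  the order `2-power · f` and a subgroup over the fixed field of the field automorphisms of odd order has odd index;
* `autOdd_g2`, `autOdd_f4`, `autOdd_e7`, `autOdd_e8`.
-/

set_option autoImplicit false

namespace Cfsg.Agent.H81.AoChev

open Cfsg Cfsg.Lie Subgroup Cfsg.Agent.H967.CopMat Cfsg.Agent.H967.CopRow Cfsg.Agent.H967.CopChev
  Cfsg.Agent.H967.FaBase Cfsg.Agent.H561.RV Cfsg.Agent.ChevalleyStructure.Elts
open scoped Pointwise

/-- **The criterion**: `AutOdd` of a matrix group stable under the field automorphisms. -/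
theorem autOdd_of_stab {ι : Type*} [Fintype ι] [DecidableEq ι] {F : Type*} [Field F] [Fintype F] {G : Subgroup (GL ι F)}
    (hG : Stab G) (hs : Group.IsSolvable (Cfsg.Out ↥G)) {p f : ℕ} [Fact p.Prime] [CharP F p] (hf : 1 ≤ f)
    (hF : Fintype.card F = p ^ f)
    (hinn : ∀ σ : F ≃+* F, σ ≠ 1 → fieldAut hG σ ∉ Cfsg.Inn ↥G)
    (hout : ∀ r : ℕ, r.Prime → r ≠ 2 → ∀ k, r ^ k ∣ Nat.card (Cfsg.Out ↥G) → r ^ k ∣ f)
    (hfix : ∀ (E : Subfield F) (m : ℕ), Odd m → Nat.card F = Nat.card ↥E ^ m →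
      ∃ G₀ : Subgroup (GL ι ↥E), G₀.map (Matrix.GeneralLinearGroup.map E.subtype) ≤ G ∧
        ¬ 2 ∣ (G₀.map (Matrix.GeneralLinearGroup.map E.subtype)).relIndex G) :
    AutOdd ↥G := by
  have hfin : Finite (F ≃+* F) := Finite.of_injective (fun f : F ≃+* F => (f : F → F)) DFunLike.coe_injective
  have hfinG : Finite ↥G := inferInstance
  have hfinA : Finite (MulAut ↥G) := Finite.of_injective (fun f : MulAut ↥G => (f : ↥G → ↥G)) DFunLike.coe_injective
  obtain ⟨τ, hτ⟩ := exists_ringAut p f hF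
  obtain ⟨b, m, hm, hfm⟩ := Nat.exists_eq_two_pow_mul_odd (n := f) (by omega)
  set! σ : F ≃+* F := τ ^ 2 ^ b with hσ
  have hoσ : orderOf σ = m := by
    rw [hσ, orderOf_pow_of_dvd (pow_ne_zero _ two_ne_zero) (by rw [hτ, hfm]; exact dvd_mul_right _ _), hτ, hfm]
    exact Nat.mul_div_cancel_left m (Nat.two_pow_pos b)
  obtain ⟨G₀, hG₀, hodd⟩ := hfix (Fx σ) m hm (by rw [card_Fx σ, hoσ])
  set! H : Subgroup ↥G := (G₀.map (Matrix.GeneralLinearGroup.map (Fx σ).subtype)).subgroupOf G with hH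
  -- the Sylow subgroup
  obtain ⟨Q⟩ : Nonempty (Sylow 2 H) := inferInstance
  have h1 : ¬ 2 ∣ (((Q : Subgroup H).map H.subtype).index :) := by
    rw [index_map_subtype]
    intro hd
    rcases (Nat.prime_two.dvd_mul).1 hd with h | h
    · exact Q.not_dvd_index h
    · exact hodd h
  set! P₀ : Sylow 2 ↥G := (Q.isPGroup'.map H.subtype).toSylow h1 with hP₀
  have hP₀H : ∀ x ∈ P₀, x ∈ H := fun x hx => map_subtype_le _ hx
  have hfixH : ∀ x ∈ H, fieldAut hG σ x = x := by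
    rintro x ⟨y, hy, hyx⟩
    have h2 : Matrix.GeneralLinearGroup.map (Fx σ).subtype y = (x : GL ι F) := hyx
    apply Subtype.ext
    rw [coe_fieldAut, ← h2]
    exact map_fixed σ y
  refine autOdd_of_index hs P₀ (zpowers (fieldAut hG σ)) ?_ ?_
  · intro φ hφ x hx
    have h3 : (⟨fieldAut hG σ, mem_zpowers _⟩ : zpowers (fieldAut hG σ)) = ⟨fieldAut hG σ, mem_zpowers _⟩ := rfl
    have hle : zpowers (fieldAut hG σ) ≤ MulAction.stabilizer (MulAut ↥G) x := by
      rw [zpowers_le]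
      exact hfixH x (hP₀H x hx)
    exact hle hφ
  · intro r hr hd
    by_contra hr2
    set! mk := QuotientGroup.mk' (Inn ↥G) with hmk
    set! C := zpowers (fieldAut hG σ) with hC; rewrite [← hC] at hd
    have hidx : (C.map mk).index = (C ⊔ Inn ↥G).index := by
      rw [index_map, hmk, QuotientGroup.ker_mk', MonoidHom.range_eq_top.2 (QuotientGroup.mk'_surjective _),
        index_top, mul_one]
    have hcard : Nat.card (C.map mk) = m := by
      have h2 : C.map mk = zpowers ((mk.comp (fieldAut hG)) σ) := by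
        rw [hC, MonoidHom.map_zpowers]; rfl
      rw [h2, Nat.card_zpowers, orderOf_injective (mk.comp (fieldAut hG)) _ σ, hoσ]
      rw [injective_iff_map_eq_one]
      intro ρ hρ
      by_contra hne
      exact hinn ρ hne ((QuotientGroup.eq_one_iff _).1 hρ)
    have hmul := (C.map mk).card_mul_index
    rw [hcard, hidx] at hmul
    have hm0 : m ≠ 0 := by rintro rfl; simp at hm
    obtain ⟨v, s, hs', hms⟩ := Nat.exists_eq_pow_mul_and_not_dvd hm0 r hr.ne_one
    have h4 : r ^ (v + 1) ∣ f := by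
      refine hout r hr hr2 (v + 1) ?_
      have h5 : r ^ (v + 1) ∣ m * (C ⊔ Inn ↥G).index := by
        rw [pow_succ]
        exact mul_dvd_mul (by rw [hms]; exact dvd_mul_right _ _) hd
      rw [hmul] at h5
      exact h5
    have h6 : r ^ (v + 1) ∣ m := by
      rw [hfm] at h4
      refine Nat.Coprime.dvd_of_dvd_mul_left ?_ h4
      exact Nat.Coprime.pow _ _ ((Nat.coprime_primes hr Nat.prime_two).2 hr2)
    rw [hms, pow_succ] at h6
    exact hs' ((mul_dvd_mul_iff_left (pow_ne_zero v hr.ne_zero)).1 h6)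

/-! ### Odd multiples -/

/-- `b` is an odd multiple of `a` -/
def OddMul (a b : ℕ) : Prop := ∃ t, Odd t ∧ b = a * t

theorem OddMul.mul {a b c d : ℕ} (h : OddMul a b) (h' : OddMul c d) : OddMul (a * c) (b * d) := by
  obtain ⟨t, ht, rfl⟩ := h
  obtain ⟨s, hs, rfl⟩ := h'
  exact ⟨t * s, ht.mul hs, by ring⟩

theorem oddMul_odd {a b : ℕ} (hd : a ∣ b) (hb : Odd b) : OddMul a b := by
  obtain ⟨t, rfl⟩ := hd
  exact ⟨t, (Nat.odd_mul.1 hb).2, rfl⟩

theorem oddMul_pow {q m : ℕ} (hq : Odd q) (hm : Odd m) (N : ℕ) : OddMul (q ^ N) ((q ^ m) ^ N) := by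
  refine oddMul_odd ?_ (hq.pow.pow)
  rw [← pow_mul]
  refine pow_dvd_pow q ?_
  exact Nat.le_mul_of_pos_left N hm.pos

theorem oddMul_sub {q m : ℕ} (hq : Odd q) (hm : Odd m) (d : ℕ) : OddMul (q ^ d - 1) ((q ^ m) ^ d - 1) := by
  refine ⟨∑ i ∈ Finset.range m, (q ^ d) ^ i, ?_, ?_⟩
  · rw [Finset.odd_sum_iff_odd_card_odd]
    have h1 : (Finset.range m).filter (fun i => Odd ((q ^ d) ^ i)) = Finset.range m :=
      Finset.filter_true_of_mem fun i _ => (hq.pow).pow
    rw [h1, Finset.card_range]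
    exact hm
  · have h1 : (q ^ m) ^ d = (q ^ d) ^ m := by rw [← pow_mul, ← pow_mul, mul_comm]
    have h2 : 1 ≤ q ^ d := Nat.one_le_pow _ _ hq.pos
    have h3 := geom_sum_mul_add (q ^ d - 1) m
    rw [Nat.sub_add_cancel h2] at h3
    rw [h1, ← h3, Nat.add_sub_cancel, mul_comm]

/-- `q ^ N ∏ (q ^ d - 1)` -/
theorem oddMul_prod {q m : ℕ} (hq : Odd q) (hm : Odd m) (N : ℕ) (l : List ℕ) :
    OddMul (q ^ N * (l.map fun d => q ^ d - 1).prod) ((q ^ m) ^ N * (l.map fun d => (q ^ m) ^ d - 1).prod) := by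
  refine (oddMul_pow hq hm N).mul ?_
  induction l with
  | nil => exact ⟨1, odd_one, rfl⟩
  | cons d l ih =>
    simp only [List.map_cons, List.prod_cons]
    exact (oddMul_sub hq hm d).mul ih

/-! ### Chevalley groups -/

section Chev

universe u

variable {F : Type u} [Field F] [Fintype F]

/-- the criterion for the Chevalley groups -/
theorem autOdd_chev {D : ChevalleyDatum} (hD : InList D) (hs : Schreier.Basic.Sch ↥(D.group F))
    (hodd : Odd (Fintype.card F)) {c c' : ℕ} (hc : c ≠ 0) (hc' : ∀ r : ℕ, r.Prime → r ∣ c' → r = 2)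
    (hout : ∀ p f : ℕ, p.Prime → CharP F p → Fintype.card F = p ^ f → Nat.card (Cfsg.Out ↥(D.group F)) ∣ c' * f)
    (N : ℕ) (l : List ℕ)
    (hcard : ∀ (E : Type u) [Field E] [Fintype E], Odd (Fintype.card E) →
      c * Nat.card ↥(D.group E) = Fintype.card E ^ N * (l.map fun d => Fintype.card E ^ d - 1).prod)
    (hcardF : c * Nat.card ↥(D.group F) = Fintype.card F ^ N * (l.map fun d => Fintype.card F ^ d - 1).prod) :
    AutOdd ↥(D.group F) := by
  obtain ⟨p, f, hp, hchar, hf, hF⟩ := exists_char F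
  have : Fact p.Prime := ⟨hp⟩
  refine autOdd_of_stab (stab_group D F) (H254.isSolvable_out_of_sch hs) hf hF (fun σ h => not_inner hD σ h) ?_ ?_
  · intro r hr hr2 k hk
    have h1 : (r ^ k).Coprime c' := by
      apply Nat.Coprime.pow_left
      rw [hr.coprime_iff_not_dvd]
      exact fun h => hr2 (hc' r hr h)
    exact h1.dvd_of_dvd_mul_left (hk.trans (hout p f hp hchar hF))
  · intro E m hm hE
    have : Fintype ↥E := Fintype.ofFinite _
    rw [Nat.card_eq_fintype_card, Nat.card_eq_fintype_card] at hE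
    have hEodd : Odd (Fintype.card ↥E) := by
      rw [hE] at hodd
      exact hodd.of_dvd_nat (dvd_pow_self _ hm.pos.ne')
    refine ⟨D.group ↥E, map_group_le D E.subtype, ?_⟩
    have h1 : Nat.card ↥((D.group ↥E).map (Matrix.GeneralLinearGroup.map E.subtype)) = Nat.card ↥(D.group ↥E) :=
      (Nat.card_congr ((D.group ↥E).equivMapOfInjective _ (_root_.Cfsg.Agent.H967.CopMat.map_injective E.subtype)).toEquiv).symm
    have h2 := card_mul_index (((D.group ↥E).map (Matrix.GeneralLinearGroup.map E.subtype)).subgroupOf (D.group F))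
    rw [Nat.card_congr (subgroupOfEquivOfLe (map_group_le D E.subtype)).toEquiv, h1] at h2
    obtain ⟨t, ht, h3⟩ := oddMul_prod hEodd hm N l
    rw [← hE, ← hcardF, ← hcard ↥E hEodd, mul_assoc] at h3
    have h4 := Nat.eq_of_mul_eq_mul_left (Nat.pos_of_ne_zero hc) h3
    rw [← h2] at h4
    have h5 := Nat.eq_of_mul_eq_mul_left Nat.card_pos h4
    rw [relIndex, h5]
    exact fun h => Nat.not_even_iff_odd.2 ht (even_iff_two_dvd.2 h)

end Chev

section types

variable {F : Type*} [Field F] [Fintype F]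

theorem two_of_dvd_two {r : ℕ} (hr : r.Prime) (h : r ∣ 2) : r = 2 :=
  (Nat.prime_dvd_prime_iff_eq hr Nat.prime_two).1 h

/-- **`G₂`** -/
theorem autOdd_g2 (h3 : 3 ≤ Fintype.card F) (hodd : Odd (Fintype.card F)) : AutOdd ↥(Lie.chevG2.group F) := by
  have : IsSimpleGroup ↥(Lie.chevG2.group F) := by
    classical
    obtain ⟨a, ha⟩ := Fintype.exists_ne_of_one_lt_card (α := Fˣ) (by rw [Fintype.card_units]; omega) 1
    exact (S1055.result ⟨(a : F), a.ne_zero, fun h => ha (Units.ext h)⟩).1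
  refine autOdd_chev (by simp) (Schreier.Chev.sch_g2 F) hodd (c := 1) (c' := 2) one_ne_zero
    (fun r hr h => two_of_dvd_two hr h) ?_ 6 [2, 6] ?_ ?_
  · intro p f hp hc hF
    have : Fact p.Prime := ⟨hp⟩
    rw [S2121.result p f hF (by rw [← hF]; exact h3)]
    split_ifs
    · exact dvd_rfl
    · exact dvd_mul_left _ _
  · intro E _ _ _
    rw [S1059.result rfl]
    simp only [mul_assoc, _root_.one_mul, _root_.List.map_cons, _root_.List.map_nil, _root_.List.prod_cons, _root_.List.prod_nil, _root_.mul_one]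
  · rw [S1059.result rfl]
    simp only [mul_assoc, _root_.one_mul, _root_.List.map_cons, _root_.List.map_nil, _root_.List.prod_cons, _root_.List.prod_nil, _root_.mul_one]

/-- **`F₄`** -/
theorem autOdd_f4 (hodd : Odd (Fintype.card F)) : AutOdd ↥(Lie.chevF4.group F) := by
  have : IsSimpleGroup ↥(Lie.chevF4.group F) := (S1054.result _ (by simp)).1
  refine autOdd_chev (by simp) (Schreier.Chev.sch_f4 F) hodd (c := 1) (c' := 2) one_ne_zero
    (fun r hr h => two_of_dvd_two hr h) ?_ 24 [2, 6, 8, 12] ?_ ?_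
  · intro p f hp hc hF
    have : Fact p.Prime := ⟨hp⟩
    rw [S2122.result p f hF]
    exact mul_dvd_mul_right (Nat.gcd_dvd_left _ _) _
  · intro E _ _ _
    rw [S1062.result rfl]
    simp only [mul_assoc, _root_.one_mul, _root_.List.map_cons, _root_.List.map_nil, _root_.List.prod_cons, _root_.List.prod_nil, _root_.mul_one]
  · rw [S1062.result rfl]
    simp only [mul_assoc, _root_.one_mul, _root_.List.map_cons, _root_.List.map_nil, _root_.List.prod_cons, _root_.List.prod_nil, _root_.mul_one]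

theorem gcd_two_sub {q : ℕ} (hq : Odd q) : Nat.gcd 2 (q - 1) = 2 :=
  Nat.gcd_eq_left (Nat.Odd.sub_odd hq odd_one).two_dvd

/-- **`E₇`** -/
theorem autOdd_e7 (hodd : Odd (Fintype.card F)) : AutOdd ↥(Lie.chevE7.group F) := by
  have : IsSimpleGroup ↥(Lie.chevE7.group F) := (S1054.result _ (by simp)).1
  refine autOdd_chev (by simp) (Schreier.Chev.sch_e7 F) hodd (c := 2) (c' := 2) two_ne_zero
    (fun r hr h => two_of_dvd_two hr h) ?_ 63 [2, 6, 8, 10, 12, 14, 18] ?_ ?_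
  · intro p f hp hc hF
    have : Fact p.Prime := ⟨hp⟩
    rw [S2124.result p f hF]
    exact mul_dvd_mul_right (Nat.gcd_dvd_left _ _) _
  · intro E _ _ hE
    have h1 := S1064.result (F := E) rfl
    rw [gcd_two_sub hE] at h1
    rw [h1]
    simp only [mul_assoc, _root_.List.map_cons, _root_.List.map_nil, _root_.List.prod_cons, _root_.List.prod_nil, _root_.mul_one]
  · have h1 := S1064.result (F := F) rfl
    rw [gcd_two_sub hodd] at h1
    rw [h1]
    simp only [mul_assoc, _root_.List.map_cons, _root_.List.map_nil, _root_.List.prod_cons, _root_.List.prod_nil, _root_.mul_one]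

/-- **`E₈`** -/
theorem autOdd_e8 (hodd : Odd (Fintype.card F)) : AutOdd ↥(Lie.chevE8.group F) := by
  have : IsSimpleGroup ↥(Lie.chevE8.group F) := (S1054.result _ (by simp)).1
  refine autOdd_chev (by simp) (Schreier.Chev.sch_e8 F) hodd (c := 1) (c' := 2) one_ne_zero
    (fun r hr h => two_of_dvd_two hr h) ?_ 120 [2, 8, 12, 14, 18, 20, 24, 30] ?_ ?_
  · intro p f hp hc hF
    have : Fact p.Prime := ⟨hp⟩
    rw [S2125.result p f hF]
    exact dvd_mul_left _ _
  · intro E _ _ _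
    rw [S1065.result rfl]
    simp only [mul_assoc, _root_.one_mul, _root_.List.map_cons, _root_.List.map_nil, _root_.List.prod_cons, _root_.List.prod_nil, _root_.mul_one]
  · rw [S1065.result rfl]
    simp only [mul_assoc, _root_.one_mul, _root_.List.map_cons, _root_.List.map_nil, _root_.List.prod_cons, _root_.List.prod_nil, _root_.mul_one]

end types

end Cfsg.Agent.H81.AoChev
end

-- part: H686/AO/Desc
section
/-!
# Descent of `H0` to the fixed field of the field automorphisms of odd order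
-/

set_option autoImplicit false
set_option linter.unusedSectionVars false

namespace Cfsg.Agent.H686.AO

open Subgroup Cfsg Cfsg.Lie Cfsg.Agent.ChevalleyStructure Cfsg.Agent.ChevalleyStructure.Elts
open Cfsg.Agent.ChevalleyStructure.TwE6Basic Cfsg.Agent.ChevalleyStructure.GraphSymm
open Cfsg.Agent.H81.AoChev
open scoped Pointwise Matrix

universe u

section Map

variable {K : Type u} [Field K] {E : Subfield K}

/-- the extension of scalars -/
noncomputable abbrev em (E : Subfield K) : GL chevE6.Idx ↥E →* GL chevE6.Idx K :=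
  Matrix.GeneralLinearGroup.map E.subtype

theorem em_x (r : ℕ) (t : E) : em E (x r t) = x r (t : K) := by
  apply Units.ext
  exact Cfsg.Agent.ChevStructure.FieldMap.x_map chevE6 E.subtype r t

theorem em_nG (r : ℕ) (t : E) : em E (nG hE6 r t) = nG hE6 r (t : K) := by
  rw [nG_def, nG_def, map_mul, map_mul]
  have h1 := em_x (K := K) r t
  have h2 := em_x (K := K) (chevE6.neg r) (-t⁻¹)
  have e : ((-t⁻¹ : E) : K) = -(t : K)⁻¹ := by push_cast; rfl
  rw [e] at h2
  exact congrArg₂ (· * ·) h1 (congrArg₂ (· * ·) h2 h1)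

theorem em_n (i : Fin 4) : em E (n i) = n (K := K) i := by
  rw [n_def, n_def, map_list_prod, List.map_map]
  congr 1
  refine List.map_congr_left fun j _ => ?_
  exact em_nG _ _

theorem em_hG (r : ℕ) (t : E) : em E (hG hE6 r t) = hG hE6 r (t : K) := by
  rw [hG_def, hG_def, map_mul, em_nG, em_nG]
  congr 2

variable {φ : K →+* K} {φ₀ : E →+* E} {q q₀ : ℕ} (hφ : ∀ t, φ t = t ^ q) (hφ₀ : ∀ t, φ₀ t = t ^ q₀)
  (hqq : ∀ t : E, (t : K) ^ q = (t : K) ^ q₀)

include hφ hφ₀ hqq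

theorem fixed_coe {t : E} (ht : φ₀ t = t) : φ (t : K) = t := by
  rw [hφ, hqq]
  have := congrArg (Subtype.val) ht
  rw [hφ₀] at this
  exact this

theorem map_Rq {r : Fin 72} (hr : rho r = r) : (Rq φ₀ r).map (em E) ≤ Rq φ r := by
  rintro _ ⟨y, hy, rfl⟩
  obtain ⟨t, ht, rfl⟩ := (mem_Rq hr).1 hy
  rw [em_x]
  exact (mem_Rq hr).2 ⟨t, fixed_coe hφ hφ₀ hqq ht, rfl⟩

theorem map_Lq {r : Fin 72} (hr : rho r = r) : (Lq φ₀ r).map (em E) ≤ Lq φ r := by
  unfold Lq
  rw [Subgroup.map_sup]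
  exact sup_le_sup (map_Rq hφ hφ₀ hqq hr) (map_Rq hφ hφ₀ hqq (rev_fixed r hr))

theorem map_TT : (TT E q₀).map (em E) ≤ TT K q := by
  rw [map_le_iff_le_comap]
  intro g hg
  refine ⟨?_, ?_⟩
  · have h1 : chevE6.diagonalSubgroup E ≤ (chevE6.diagonalSubgroup K).comap (em E) := by
      rw [diagonal_le_iff hE6]
      intro r hr t ht
      show em E (hG hE6 r t) ∈ chevE6.diagonalSubgroup K
      rw [em_hG]
      exact hG_mem_diagonal hE6 hr (fun h => ht (Subtype.ext h))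
    exact h1 hg.1
  · have h1 : twistedE6 E q₀ ≤ (twistedE6 K q).comap (em E) := by
      rw [twisted_le_iff]
      refine ⟨fun t ht r hr => ?_, fun t rs hrs => ?_⟩
      · show em E (x r t) ∈ twistedE6 K q
        rw [em_x]
        refine single_mem ?_ hr
        rw [hqq]
        exact congrArg Subtype.val ht
      · show em E (x rs.1 t * x rs.2 (t ^ q₀)) ∈ twistedE6 K q
        rw [map_mul, em_x, em_x]
        have e : ((t ^ q₀ : E) : K) = (t : K) ^ q := by
          rw [hqq]; push_cast; rfl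
        rw [e]
        exact pair_mem _ hrs
    exact h1 hg.2

/-- the groups `H0` are compatible with the extension of scalars -/
theorem map_H0 : (H0 φ₀ q₀).map (em E) ≤ H0 φ q := by
  have hL := fun i => map_Lq hφ hφ₀ hqq (rt_fixed i)
  show map (em E) (TT E q₀ ⊔ Lq φ₀ (rt 0) ⊔ Lq φ₀ (rt 1) ⊔ Lq φ₀ (rt 2) ⊔ Lq φ₀ (rt 3) ⊔ zpowers (n 2) ⊔
    zpowers (ng E) ⊔ zpowers (na E * nb E)) ≤ TT K q ⊔ Lq φ (rt 0) ⊔ Lq φ (rt 1) ⊔ Lq φ (rt 2) ⊔ Lq φ (rt 3) ⊔
    zpowers (n 2) ⊔ zpowers (ng K) ⊔ zpowers (na K * nb K)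
  rw [Subgroup.map_sup, Subgroup.map_sup, Subgroup.map_sup, Subgroup.map_sup, Subgroup.map_sup, Subgroup.map_sup,
    Subgroup.map_sup, MonoidHom.map_zpowers,
    MonoidHom.map_zpowers, MonoidHom.map_zpowers]
  have h1 : em E (ng E) = ng K := by
    unfold ng
    simp only [map_mul, map_inv, em_n]
  have h2 : em E (nb E) = nb K := by
    unfold nb
    simp only [map_mul, map_inv, em_n]
  have h3 : em E (na E) = na K := by
    unfold na
    simp only [map_mul, map_inv, em_n, h2]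
  rw [em_n, h1, map_mul, h2, h3]
  exact sup_le_sup (sup_le_sup (sup_le_sup (sup_le_sup (sup_le_sup (sup_le_sup (sup_le_sup
    (map_TT hφ hφ₀ hqq) (hL 0)) (hL 1)) (hL 2)) (hL 3)) le_rfl) le_rfl) le_rfl

end Map

/-! ### arithmetic -/

theorem oddMul_two {q : ℕ} (hq : Odd q) (k : ℕ) : OddMul 2 ((q ^ 2) ^ k + 1) := by
  have h1 : (q ^ 2) ^ k % 4 = 1 := by
    have h2 : q ^ 2 % 4 = 1 := by
      obtain ⟨a, rfl⟩ := hq
      have : (2 * a + 1) ^ 2 = 4 * (a ^ 2 + a) + 1 := by ring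
      rw [this]; omega
    rw [Nat.pow_mod, h2, one_pow]
    rfl
  refine ⟨((q ^ 2) ^ k + 1) / 2, ?_, ?_⟩
  · rw [Nat.odd_iff]; omega
  · omega

theorem OddMul.trans {a b c : ℕ} (h : OddMul a b) (h' : OddMul b c) : OddMul a c := by
  obtain ⟨t, ht, rfl⟩ := h
  obtain ⟨s, hs, rfl⟩ := h'
  exact ⟨t * s, ht.mul hs, by ring⟩

/-- `x ^ m - 1 = (x - 1) * odd`, `m` odd, `x` odd -/
theorem oddMul_pow_sub {x m : ℕ} (hx : Odd x) (hm : Odd m) : OddMul (x - 1) (x ^ m - 1) := by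
  have := oddMul_sub hx hm 1
  simpa only [_root_.pow_one] using this

/-- `x ^ m + 1 = (x + 1) * odd`, `m` odd, `x` odd -/
theorem oddMul_pow_add {x m : ℕ} (hx : Odd x) (hm : Odd m) : OddMul (x + 1) (x ^ m + 1) := by
  have h1 : OddMul (x ^ 2 - 1) ((x ^ 2) ^ m - 1) := oddMul_pow_sub hx.pow hm
  have h2 : OddMul (x - 1) (x ^ m - 1) := oddMul_pow_sub hx hm
  have e1 : x ^ 2 - 1 = (x - 1) * (x + 1) := by
    have := Nat.sq_sub_sq x 1
    rw [one_pow] at this
    rw [this, mul_comm]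
  have e2 : (x ^ 2) ^ m - 1 = (x ^ m - 1) * (x ^ m + 1) := by
    have := Nat.sq_sub_sq (x ^ m) 1
    rw [one_pow] at this
    rw [← pow_mul, mul_comm 2 m, pow_mul, this, mul_comm]
  obtain ⟨t, ht, h3⟩ := h1
  obtain ⟨s, hs, h4⟩ := h2
  have hd : x + 1 ∣ x ^ m + 1 := by
    have := hm.nat_add_dvd_pow_add_pow x 1
    simpa only [_root_.one_pow] using this
  obtain ⟨r, hr⟩ := hd
  refine ⟨r, ?_, hr⟩
  rcases Nat.eq_zero_or_pos (x - 1) with h0 | h0
  · have : x = 1 := by have := hx.pos; omega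
    subst this
    simp at hr
    have : r = 1 := by omega
    rw [this]; exact odd_one
  · rw [e1, e2, h4, hr] at h3
    have h5 : (x - 1) * (x + 1) * (s * r) = (x - 1) * (x + 1) * t := by rw [← h3]; ring
    have h6 := Nat.eq_of_mul_eq_mul_left (Nat.mul_pos h0 (Nat.succ_pos _)) h5
    rw [← h6] at ht
    exact (Nat.odd_mul.1 ht).2

theorem order_oddMul {q : ℕ} (hq : Odd q) :
    OddMul (8 * (q ^ 2 - 1) ^ 4 * (q + 1) ^ 2)
      (q ^ 36 * (q ^ 2 - 1) * (q ^ 5 + 1) * (q ^ 6 - 1) * (q ^ 8 - 1) * (q ^ 9 + 1) * (q ^ 12 - 1)) := by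
  have hsq : ∀ a : ℕ, a ^ 2 - 1 = (a - 1) * (a + 1) := by
    intro a
    have := Nat.sq_sub_sq a 1
    rw [one_pow] at this
    rw [this, mul_comm]
  have h36 : OddMul 1 (q ^ 36) := ⟨q ^ 36, hq.pow, by ring⟩
  have h6 : OddMul (q ^ 2 - 1) (q ^ 6 - 1) := by
    have := oddMul_pow_sub (x := q ^ 2) (m := 3) hq.pow (by decide)
    rwa [← pow_mul] at this
  have h12 : OddMul ((q ^ 2 - 1) * 2) (q ^ 12 - 1) := by
    have h1 : OddMul 2 (q ^ 6 + 1) := by
      have := oddMul_two hq 3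
      rwa [← pow_mul] at this
    have e : q ^ 12 - 1 = (q ^ 6 - 1) * (q ^ 6 + 1) := by
      rw [← hsq, ← pow_mul]
    rw [e]
    exact h6.mul h1
  have h8 : OddMul ((q ^ 2 - 1) * 2 * 2) (q ^ 8 - 1) := by
    have h1 : OddMul 2 (q ^ 4 + 1) := by
      have := oddMul_two hq 2
      rwa [← pow_mul] at this
    have h2 : OddMul 2 (q ^ 2 + 1) := by
      have := oddMul_two hq 1
      rwa [pow_one] at this
    have e : q ^ 8 - 1 = (q ^ 2 - 1) * (q ^ 2 + 1) * (q ^ 4 + 1) := by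
      rw [← hsq, ← pow_mul, ← hsq, ← pow_mul]
    rw [e]
    exact (OddMul.mul ⟨1, odd_one, by ring⟩ h2).mul h1
  have h9 : OddMul (q + 1) (q ^ 9 + 1) := oddMul_pow_add hq (by decide)
  have h5 : OddMul (q + 1) (q ^ 5 + 1) := oddMul_pow_add hq (by decide)
  have h2 : OddMul (q ^ 2 - 1) (q ^ 2 - 1) := ⟨1, odd_one, by ring⟩
  have h := (((((h36.mul h2).mul h5).mul h6).mul h8).mul h9).mul h12
  have e : 1 * (q ^ 2 - 1) * (q + 1) * (q ^ 2 - 1) * ((q ^ 2 - 1) * 2 * 2) * (q + 1) * ((q ^ 2 - 1) * 2) =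
      8 * (q ^ 2 - 1) ^ 4 * (q + 1) ^ 2 := by ring
  rwa [e] at h

/-- the number of fixed elements -/
theorem card_fixed' {K : Type u} [Field K] [Finite K] {φ : K →+* K} {q : ℕ} (hq : 1 < q)
    (hK : Nat.card K = q ^ 2) (hφ : ∀ t, φ t = t ^ q) : Nat.card (Option {t : K // φ t = t}) = q + 1 := by
  have : Fintype K := Fintype.ofFinite K
  rw [Nat.card_eq_fintype_card] at hK
  rw [Finite.card_option]
  have h1 := Cfsg.Agent.ChevalleyStructure.D4H1.card_fixed hq hK hφ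
  have h2 : Nat.card (↥(kq φ))ˣ = Nat.card {b : Kˣ // φ b = b} := by
    refine Nat.card_congr
      { toFun := fun b => ⟨Units.map ((kq φ).subtype : kq φ →* K) b, (b : kq φ).2⟩
        invFun := fun b => Units.mk0 ⟨((b : Kˣ) : K), b.2⟩ (fun e => (b : Kˣ).ne_zero (congrArg Subtype.val e))
        left_inv := fun b => Units.ext (Subtype.ext rfl)
        right_inv := fun b => Subtype.ext (Units.ext rfl) }
  rw [h1, Nat.card_units] at h2
  have h3 : 0 < Nat.card (kq φ) := Nat.card_pos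
  have h4 : Nat.card {t : K // φ t = t} = Nat.card (kq φ) := rfl
  omega

theorem pow_odd_eq {K : Type u} [Field K] {q₀ m : ℕ} (hm : Odd m) {t : K} (ht : (t ^ q₀) ^ q₀ = t) :
    t ^ q₀ ^ m = t ^ q₀ := by
  obtain ⟨k, rfl⟩ := hm
  induction k with
  | zero => simp
  | succ k ih =>
    have e : q₀ ^ (2 * (k + 1) + 1) = q₀ ^ (2 * k + 1) * (q₀ * q₀) := by ring
    rw [e, pow_mul, ih, pow_mul, ht]

theorem gcd_odd (q : ℕ) : Odd (Nat.gcd 3 (q + 1)) :=
  Odd.of_dvd_nat (by decide) (Nat.gcd_dvd_left 3 (q + 1))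

/-- **the index of the image of `H0` over the small field is odd** -/
theorem exists_H0 {K : Type u} [Field K] [Finite K] {E : Subfield K} {q q₀ m : ℕ} (hq : IsPrimePow q)
    (hodd : Odd q) (hK : Nat.card K = q ^ 2) (hm : Odd m) (hqm : q = q₀ ^ m) (hE : Nat.card E = q₀ ^ 2) :
    ∃ (φ : K →+* K) (G₀ : Subgroup (GL chevE6.Idx E)), (∀ t, φ t = t ^ q) ∧ (∀ t : K, (t ^ q) ^ q = t) ∧
      G₀.map (em E) ≤ H0 φ q ∧ H0 φ q ≤ twistedE6 K q ∧ ¬ 2 ∣ (G₀.map (em E)).relIndex (twistedE6 K q) := by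
  have : Fintype K := Fintype.ofFinite K
  have : Fintype E := Fintype.ofFinite E
  rw [Nat.card_eq_fintype_card] at hK hE
  have hq0odd : Odd q₀ := by
    rw [hqm] at hodd
    exact hodd.of_dvd_nat (dvd_pow_self _ hm.pos.ne')
  have hq0 : IsPrimePow q₀ := by
    rw [hqm] at hq
    exact (isPrimePow_pow_iff hm.pos.ne').1 hq
  obtain ⟨φ, hφ, hφφ⟩ := TwE6Basic.exists_frob hq hK
  obtain ⟨φ₀, hφ₀, hφφ₀⟩ := TwE6Basic.exists_frob hq0 hE
  have hqq : ∀ t : E, (t : K) ^ q = (t : K) ^ q₀ := by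
    intro t
    rw [hqm]
    refine pow_odd_eq hm ?_
    have := congrArg Subtype.val (hφφ₀ t)
    exact this
  refine ⟨φ, H0 φ₀ q₀, hφ, hφφ, map_H0 hφ hφ₀ hqq, H0_le hφ hφφ, ?_⟩
  have hle : (H0 φ₀ q₀).map (em E) ≤ twistedE6 K q := (map_H0 hφ hφ₀ hqq).trans (H0_le hφ hφφ)
  intro h2
  have c1 : Nat.card ↥((H0 φ₀ q₀).map (em E)) = Nat.card ↥(H0 φ₀ q₀) :=
    (Nat.card_congr ((H0 φ₀ q₀).equivMapOfInjective _
      (Cfsg.Agent.H967.CopMat.map_injective E.subtype)).toEquiv).symm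
  have c2 := card_mul_index (((H0 φ₀ q₀).map (em E)).subgroupOf (twistedE6 K q))
  rw [Nat.card_congr (subgroupOfEquivOfLe hle).toEquiv, c1] at c2
  have c3 := card_H0_dvd hφ₀ hφφ₀
  rw [card_fixed' hq0.one_lt (by rw [Nat.card_eq_fintype_card, hE]) hφ₀] at c3
  have c4 := S1102.result hq0 hE
  have c5 := S1066.result hq hK
  have c6 : 2 * Nat.card ↥(H0 φ₀ q₀) ∣ Nat.card ↥(twistedE6 K q) := by
    rw [← c2, mul_comm 2]
    exact mul_dvd_mul_left _ h2
  have c7 : 2 * (8 * (q₀ + 1) ^ 4 * Nat.card ↥(TT E q₀)) ∣ Nat.card ↥(twistedE6 K q) :=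
    (mul_dvd_mul_left 2 c3).trans c6
  have c8 : Nat.gcd 3 (q₀ + 1) * (2 * (8 * (q₀ + 1) ^ 4 * Nat.card ↥(TT E q₀))) ∣
      Nat.gcd 3 (q₀ + 1) * (Nat.gcd 3 (q + 1) * Nat.card ↥(twistedE6 K q)) :=
    mul_dvd_mul_left _ (c7.trans (dvd_mul_left _ _))
  rw [c5] at c8
  have e1 : Nat.gcd 3 (q₀ + 1) * (2 * (8 * (q₀ + 1) ^ 4 * Nat.card ↥(TT E q₀))) =
      2 * (8 * (q₀ + 1) ^ 4 * (Nat.gcd 3 (q₀ + 1) * Nat.card ↥(TT E q₀))) := by ring
  have e2 : q₀ ^ 2 - 1 = (q₀ - 1) * (q₀ + 1) := by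
    have := Nat.sq_sub_sq q₀ 1
    rw [one_pow] at this
    rw [this, mul_comm]
  rw [e1] at c8
  unfold TT at c8
  rw [c4] at c8
  have e3 : 2 * (8 * (q₀ + 1) ^ 4 * ((q₀ - 1) ^ 4 * (q₀ + 1) ^ 2)) = 2 * (8 * (q₀ ^ 2 - 1) ^ 4 * (q₀ + 1) ^ 2) := by
    rw [e2]; ring
  rw [e3] at c8
  -- the order formula
  have o1 := order_oddMul hodd
  have o2 : OddMul (8 * (q₀ ^ 2 - 1) ^ 4 * (q₀ + 1) ^ 2) (8 * (q ^ 2 - 1) ^ 4 * (q + 1) ^ 2) := by
    have a1 : OddMul (q₀ ^ 2 - 1) (q ^ 2 - 1) := by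
      rw [hqm]; exact oddMul_sub hq0odd hm 2
    have a2 : OddMul (q₀ + 1) (q + 1) := by
      rw [hqm]; exact oddMul_pow_add hq0odd hm
    have a3 := ((OddMul.mul ⟨1, odd_one, by ring⟩ (((a1.mul a1).mul (a1.mul a1)))).mul (a2.mul a2) :
      OddMul (8 * ((q₀ ^ 2 - 1) * (q₀ ^ 2 - 1) * ((q₀ ^ 2 - 1) * (q₀ ^ 2 - 1))) * ((q₀ + 1) * (q₀ + 1)))
        (8 * ((q ^ 2 - 1) * (q ^ 2 - 1) * ((q ^ 2 - 1) * (q ^ 2 - 1))) * ((q + 1) * (q + 1))))
    have b : ∀ x y : ℕ, 8 * (x * x * (x * x)) * (y * y) = 8 * x ^ 4 * y ^ 2 := by intros; ring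
    rwa [b, b] at a3
  obtain ⟨t, ht, o3⟩ := OddMul.trans o2 o1
  rw [o3] at c8
  have hpos : 0 < 8 * (q₀ ^ 2 - 1) ^ 4 * (q₀ + 1) ^ 2 := by
    have h1 : 0 < q₀ ^ 2 - 1 := by
      have := hq0.one_lt
      have : 1 < q₀ ^ 2 := Nat.one_lt_pow (by norm_num) this
      omega
    (clear * - h1; positivity)
  have c9 : 8 * (q₀ ^ 2 - 1) ^ 4 * (q₀ + 1) ^ 2 * 2 ∣
      8 * (q₀ ^ 2 - 1) ^ 4 * (q₀ + 1) ^ 2 * (Nat.gcd 3 (q₀ + 1) * t) := by
    refine Dvd.dvd.trans (dvd_of_eq (mul_comm _ _)) (c8.trans (dvd_of_eq ?_))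
    ring
  have c10 := Nat.dvd_of_mul_dvd_mul_left hpos c9
  exact Nat.not_even_iff_odd.2 ((gcd_odd q₀).mul ht) (even_iff_two_dvd.2 c10)

end Cfsg.Agent.H686.AO
end

-- part: H686/AO/OutKey
section
/-!
# Inner automorphisms of `²E₆(q)` of the form diagonal times field automorphism
-/

set_option autoImplicit false
set_option linter.unusedSectionVars false

namespace Cfsg.Agent.H686.AO

open Cfsg Cfsg.Lie Cfsg.Agent.ChevalleyStructure Cfsg.Agent.ChevalleyStructure.Elts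
open Cfsg.Agent.ChevalleyStructure.TwE6Basic Cfsg.Agent.ChevalleyStructure.GraphSymm
open Cfsg.Agent.H70.ChevDiag Cfsg.Agent.H166.TwDiag
open Cfsg.Agent.H166.OutTwESix (Ok conj_mem conj_mem' diag_dgA)
open Cfsg.Agent.H967.CopMat Cfsg.Agent.H967.CopTw
open scoped Pointwise Matrix

universe u

section Tor

variable {K : Type u} [Field K]

theorem diag_conj_formula {h : GL chevE6.Idx K} (hh : h ∈ chevE6.diagonalSubgroup K) :
    ∃ c : ℕ → K, (∀ i < 6, c i ≠ 0) ∧ ∀ (r : Fin 72) (t : K), h * x r.val t * h⁻¹ =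
      x r.val (((List.range 6).map fun i => c i ^ (chevE6.cartan i r.val)).prod * t) := by
  obtain ⟨c, hc, e⟩ := Cfsg.Agent.S1034.result (F := K) chevE6 hE6 h hh
  have e' : h = wordG hE6 ((List.range chevE6.rank).flatMap fun i => chevE6.hWord (chevE6.simple i) (c i)) :=
    (eq_wordG_iff hE6 _ _).2 e
  refine ⟨c, hc, fun r t => ?_⟩
  have step : ∀ L : List ℕ, (∀ i ∈ L, i < chevE6.rank) →
      wordG hE6 (L.flatMap fun i => chevE6.hWord (chevE6.simple i) (c i)) * x r.val t *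
        (wordG hE6 (L.flatMap fun i => chevE6.hWord (chevE6.simple i) (c i)))⁻¹ =
        x r.val ((L.map fun i => c i ^ (chevE6.cartan i r.val)).prod * t) := by
    intro L
    induction L with
    | nil => intro _; simp [wordG_nil]
    | cons i L ih =>
      intro hL
      have hi := hL i List.mem_cons_self
      have h1 := ih (fun j hj => hL j (List.mem_cons_of_mem _ hj))
      rw [List.flatMap_cons, wordG_append, List.map_cons, List.prod_cons]
      have e1 : ∀ a b g : GL chevE6.Idx K, a * b * g * (a * b)⁻¹ = a * (b * g * b⁻¹) * a⁻¹ := by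
        intro a b g; group
      rw [e1, h1, mul_inv_eq_iff_eq_mul, mul_assoc (c i ^ _)]
      exact Units.ext (Cfsg.Agent.S1032.result (F := K) chevE6 hE6 i r.val hi r.isLt (c i) (hc i hi) _)
  rw [e']
  exact step _ fun i hi => List.mem_range.1 hi

/-- the value of the character of a torus element -/
noncomputable def val (c : ℕ → K) (r : ℕ) : K := ((List.range 6).map fun i => c i ^ (chevE6.cartan i r)).prod

theorem val_eq (c : ℕ → K) (r : ℕ) {a0 a1 a2 a3 a4 a5 : ℤ} (h : (List.range 6).map (fun i => chevE6.cartan i r) =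
    [a0, a1, a2, a3, a4, a5]) :
    val c r = c 0 ^ a0 * (c 1 ^ a1 * (c 2 ^ a2 * (c 3 ^ a3 * (c 4 ^ a4 * c 5 ^ a5)))) := by
  have e : List.range 6 = [0, 1, 2, 3, 4, 5] := rfl
  rw [e] at h
  simp only [List.map_cons, List.map_nil, List.cons.injEq, and_true] at h
  obtain ⟨h0, h1, h2, h3, h4, h5⟩ := h
  unfold val
  rw [e]
  simp only [List.map_cons, List.map_nil, List.prod_cons, List.prod_nil, mul_one, h0, h1, h2, h3, h4, h5]

/-- the cube root -/
theorem exists_cube {c : ℕ → K} (hc : ∀ i < 6, c i ≠ 0) {a : K} (ha : a ≠ 0) (h56 : val c 56 = a) (h46 : val c 46 = 1)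
    (h42 : val c 42 = 1) (h39 : val c 39 = 1) (h37 : val c 37 = 1) (h36 : val c 36 = a⁻¹) : ∃ d : K, d ^ 3 = a := by
  rw [val_eq c 56 (a0 := 2) (a1 := 0) (a2 := -1) (a3 := 0) (a4 := 0) (a5 := 0) (by decide +kernel)] at h56
  rw [val_eq c 46 (a0 := 0) (a1 := 2) (a2 := 0) (a3 := -1) (a4 := 0) (a5 := 0) (by decide +kernel)] at h46
  rw [val_eq c 42 (a0 := -1) (a1 := 0) (a2 := 2) (a3 := -1) (a4 := 0) (a5 := 0) (by decide +kernel)] at h42
  rw [val_eq c 39 (a0 := 0) (a1 := -1) (a2 := -1) (a3 := 2) (a4 := -1) (a5 := 0) (by decide +kernel)] at h39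
  rw [val_eq c 37 (a0 := 0) (a1 := 0) (a2 := 0) (a3 := -1) (a4 := 2) (a5 := -1) (by decide +kernel)] at h37
  rw [val_eq c 36 (a0 := 0) (a1 := 0) (a2 := 0) (a3 := 0) (a4 := -1) (a5 := 2) (by decide +kernel)] at h36
  have c0 := hc 0 (by norm_num)
  have c1 := hc 1 (by norm_num)
  have c2 := hc 2 (by norm_num)
  have c3 := hc 3 (by norm_num)
  have c4 := hc 4 (by norm_num)
  have c5 := hc 5 (by norm_num)
  refine ⟨a / c 0, ?_⟩
  have key : (c 0 ^ (2 : ℤ) * (c 1 ^ (0 : ℤ) * (c 2 ^ (-1 : ℤ) * (c 3 ^ (0 : ℤ) * (c 4 ^ (0 : ℤ) * c 5 ^ (0 : ℤ)))))) ^ 4 *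
      (c 0 ^ (0 : ℤ) * (c 1 ^ (2 : ℤ) * (c 2 ^ (0 : ℤ) * (c 3 ^ (-1 : ℤ) * (c 4 ^ (0 : ℤ) * c 5 ^ (0 : ℤ)))))) ^ 3 *
      (c 0 ^ (-1 : ℤ) * (c 1 ^ (0 : ℤ) * (c 2 ^ (2 : ℤ) * (c 3 ^ (-1 : ℤ) * (c 4 ^ (0 : ℤ) * c 5 ^ (0 : ℤ)))))) ^ 5 *
      (c 0 ^ (0 : ℤ) * (c 1 ^ (-1 : ℤ) * (c 2 ^ (-1 : ℤ) * (c 3 ^ (2 : ℤ) * (c 4 ^ (-1 : ℤ) * c 5 ^ (0 : ℤ)))))) ^ 6 *
      (c 0 ^ (0 : ℤ) * (c 1 ^ (0 : ℤ) * (c 2 ^ (0 : ℤ) * (c 3 ^ (-1 : ℤ) * (c 4 ^ (2 : ℤ) * c 5 ^ (-1 : ℤ)))))) ^ 4 *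
      (c 0 ^ (0 : ℤ) * (c 1 ^ (0 : ℤ) * (c 2 ^ (0 : ℤ) * (c 3 ^ (0 : ℤ) * (c 4 ^ (-1 : ℤ) * c 5 ^ (2 : ℤ)))))) ^ 2 =
      c 0 ^ 3 := by
    field_simp
  rw [h56, h46, h42, h39, h37, h36] at key
  rw [div_pow, ← key]
  field_simp

end Tor

section Delta

variable {K : Type u} [Field K] {q : ℕ}

theorem mE_tab2 : mE 46 0 - mE 46 5 = 0 ∧ mE 25 0 - mE 25 5 = 0 ∧ mE 39 0 - mE 39 5 = 0 ∧ mE 32 0 - mE 32 5 = 0 ∧
    mE 56 0 - mE 56 5 = 1 ∧ mE 36 0 - mE 36 5 = -1 ∧ mE 15 0 - mE 15 5 = -1 ∧ mE 35 0 - mE 35 5 = 1 ∧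
    mE 42 0 - mE 42 5 = 0 ∧ mE 37 0 - mE 37 5 = 0 ∧ mE 29 0 - mE 29 5 = 0 ∧ mE 34 0 - mE 34 5 = 0 := by
  decide +kernel

theorem ch_ok {c : Kˣ} (hc : c ^ (q + 1) = 1) : Ok q (ch c) := by
  obtain ⟨t1, t2, t3, t4, t5, t6, t7, t8, t9, t10, t11, t12⟩ := mE_tab2
  have h1 : c⁻¹ = c ^ q := by
    rw [inv_eq_iff_mul_eq_one, mul_comm, ← pow_succ, hc]
  constructor
  · intro r hr
    simp only [List.mem_cons, List.not_mem_nil, or_false] at hr
    rcases hr with rfl | rfl | rfl | rfl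
    · rw [ch_apply, t1, zpow_zero, one_pow]
    · rw [ch_apply, t2, zpow_zero, one_pow]
    · rw [ch_apply, t3, zpow_zero, one_pow]
    · rw [ch_apply, t4, zpow_zero, one_pow]
  · intro r hr
    simp only [List.mem_cons, List.not_mem_nil, or_false] at hr
    rcases hr with rfl | rfl | rfl | rfl
    · show ch c 36 = ch c 56 ^ q
      rw [ch_apply, ch_apply, t5, t6, zpow_neg, zpow_one, h1]
    · show ch c 35 = ch c 15 ^ q
      rw [ch_apply, ch_apply, t7, t8, zpow_neg, zpow_one, inv_pow, ← h1, inv_inv]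
    · show ch c 37 = ch c 42 ^ q
      rw [ch_apply, ch_apply, t9, t10, zpow_zero, one_pow]
    · show ch c 34 = ch c 29 ^ q
      rw [ch_apply, ch_apply, t11, t12, zpow_zero, one_pow]

theorem dG_mul (χ χ' : ℕ → Kˣ) : dG chevE6 χ * dG chevE6 χ' = dG chevE6 (fun r => χ r * χ' r) := by
  apply Units.ext
  rw [Units.val_mul, coe_dG, coe_dG, coe_dG]
  unfold ChevalleyDatum.charDiag
  rw [Matrix.diagonal_mul_diagonal]
  congr 1
  funext i
  rcases i with i | i <;> simp

theorem ch_mul_fun (c c' : Kˣ) : (fun r => ch c r * ch c' r) = ch (c * c') := by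
  funext r
  rw [ch_apply, ch_apply, ch_apply, mul_zpow]

theorem dG_ch_mul (c c' : Kˣ) : dG chevE6 (ch c) * dG chevE6 (ch c') = dG chevE6 (ch (c * c')) := by
  rw [dG_mul, ch_mul_fun]

theorem dG_ch_one : dG chevE6 (ch (1 : Kˣ)) = 1 := by
  have h := dG_ch_mul (1 : Kˣ) 1
  rw [mul_one] at h
  exact mul_eq_left.1 h

/-- the group of the parameters -/
def mu (K : Type u) [Field K] (n : ℕ) : Subgroup Kˣ := (powMonoidHom n : Kˣ →* Kˣ).ker

theorem mem_mu {n : ℕ} {c : Kˣ} : c ∈ mu K n ↔ c ^ n = 1 := Iff.rfl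

theorem pow_of_mu {n : ℕ} (hn : n ∣ q + 1) {c : Kˣ} (hc : c ∈ mu K n) : c ^ (q + 1) = 1 := by
  obtain ⟨k, hk⟩ := hn
  rw [hk, pow_mul, mem_mu.1 hc, one_pow]

/-- the diagonal automorphism -/
noncomputable def dl0 (c : Kˣ) (hc : c ^ (q + 1) = 1) : MulAut ↥(twistedE6 K q) :=
  dgA (conj_mem (ch_mul c) (ch_ok hc)) (conj_mem' (ch_mul c) (ch_ok hc))

theorem coe_dl0 (c : Kˣ) (hc : c ^ (q + 1) = 1) (g : ↥(twistedE6 K q)) :
    ((dl0 c hc g : ↥(twistedE6 K q)) : GL chevE6.Idx K) = dG chevE6 (ch c) * g * (dG chevE6 (ch c))⁻¹ := rfl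

theorem dl0_one (h : (1 : Kˣ) ^ (q + 1) = 1) : dl0 (q := q) (1 : Kˣ) h = 1 := by
  ext1 g
  apply Subtype.ext
  rw [coe_dl0, dG_ch_one, inv_one, mul_one, one_mul, MulAut.one_apply]

theorem dl0_mul (c c' : Kˣ) (hc : c ^ (q + 1) = 1) (hc' : c' ^ (q + 1) = 1) (hcc : (c * c') ^ (q + 1) = 1) :
    dl0 (c * c') hcc = dl0 c hc * dl0 c' hc' := by
  ext1 g
  apply Subtype.ext
  rw [MulAut.mul_apply, coe_dl0, coe_dl0, coe_dl0, ← dG_ch_mul]
  group

/-- the diagonal automorphisms -/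
noncomputable def dl {n : ℕ} (hn : n ∣ q + 1) : mu K n →* MulAut ↥(twistedE6 K q) where
  toFun c := dl0 (c : Kˣ) (pow_of_mu hn c.2)
  map_one' := dl0_one _
  map_mul' _ _ := dl0_mul _ _ _ _ _

theorem coe_dl {n : ℕ} (hn : n ∣ q + 1) (c : mu K n) (g : ↥(twistedE6 K q)) :
    ((dl hn c g : ↥(twistedE6 K q)) : GL chevE6.Idx K) = dG chevE6 (ch (c : Kˣ)) * g * (dG chevE6 (ch (c : Kˣ)))⁻¹ := rfl

/-- the action of the field automorphisms on the parameters -/
def muMap {n : ℕ} (σ : K ≃+* K) (c : mu K n) : mu K n :=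
  ⟨Units.map (σ : K →* K) c, by
    rw [mem_mu, ← map_pow, mem_mu.1 c.2, map_one]⟩

theorem map_dG (σ : K ≃+* K) (c : Kˣ) :
    Matrix.GeneralLinearGroup.map (σ : K →+* K) (dG chevE6 (ch c)) = dG chevE6 (ch (Units.map (σ : K →* K) c)) := by
  apply Units.ext
  show (chevE6.charDiag K (ch c)).map (σ : K →+* K) = chevE6.charDiag K (ch (Units.map (σ : K →* K) c))
  unfold ChevalleyDatum.charDiag
  rw [Matrix.diagonal_map (map_zero _)]
  congr 1
  funext i
  rcases i with i | i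
  · simp
  · show σ ((ch c i.val : Kˣ) : K) = ((ch (Units.map (σ : K →* K) c) i.val : Kˣ) : K)
    rw [ch_apply, ch_apply]
    simp

theorem fieldAut_dl {n : ℕ} (hn : n ∣ q + 1) (σ : K ≃+* K) (c : mu K n) :
    fieldAut (stab_e6 q) σ * dl hn c = dl hn (muMap σ c) * fieldAut (stab_e6 q) σ := by
  ext1 g
  apply Subtype.ext
  rw [MulAut.mul_apply, MulAut.mul_apply, coe_fieldAut, coe_dl, coe_dl, coe_fieldAut, map_mul, map_mul, map_inv,
    map_dG]
  rfl

theorem map_x (ρ : K ≃+* K) (r : ℕ) (t : K) :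
    Matrix.GeneralLinearGroup.map (ρ : K →+* K) (x r t : GL chevE6.Idx K) = x r (ρ t) := by
  apply Units.ext
  exact Cfsg.Agent.ChevStructure.FieldMap.x_map chevE6 (ρ : K →+* K) r t

theorem dG_x (c : Kˣ) (r : ℕ) (t : K) :
    dG chevE6 (ch c) * x r t * (dG chevE6 (ch c))⁻¹ = x r ((ch c r : K) * t) := dG_conj hE6 (ch_mul c) r t

end Delta

section Key

open Cfsg.Agent.Nodes.RGDFold Cfsg.Agent.Nodes.RGDTwE6 Cfsg.Agent.KFacts.TwESix.Out Cfsg.Agent.KFacts.TwESix.OutTwo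
open Cfsg.Agent.CpAut.RgdTwE6 (st ntau_st)
open Cfsg.Agent.H166.OutNodes (mem_frame_of_diag)
open Cfsg.Agent.H166.OutRGD (mem_T_of_frame)

variable {K : Type u} [Field K] [Fintype K] {q : ℕ}

theorem mem_diag_of_eq (hq : IsPrimePow q) (hK : Fintype.card K = q ^ 2) {n : ℕ} (hn : n ∣ q + 1) (c : mu K n)
    (ρ : K ≃+* K) (y : ↥(twistedE6 K q)) (h : MulAut.conj y = dl hn c * fieldAut (stab_e6 q) ρ) :
    (y : GL chevE6.Idx K) ∈ chevE6.diagonalSubgroup K := by
  obtain ⟨φ, hφ, hqq⟩ := TwE6Basic.exists_frob hq hK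
  obtain ⟨p, hp⟩ := CharP.exists K
  have : Fact p.Prime := ⟨CharP.char_is_prime K p⟩
  have hW : Finite CoxeterMatrix.F₄.Group :=
    Cfsg.Agent.Nodes.RGDFold.finite_W (hp := Cfsg.Agent.Nodes.RGDTwE6.hp) CoxeterMatrix.F₄.toCoxeterSystem
      Cfsg.Agent.Nodes.RGDTwE6.isCartan Cfsg.Agent.Nodes.RGDTwE6.foldData
  have R := Cfsg.Agent.Nodes.RGDTwE6.rgd CoxeterMatrix.F₄.toCoxeterSystem hφ hqq p
  have h1 := diag_dgA hφ hqq (ch_mul (c : Kˣ)) (ch_ok (pow_of_mu hn c.2))
  have h2 := (ntau_st hφ hqq ρ CoxeterMatrix.F₄.toCoxeterSystem p).diag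
  have h3 := h1.mul h2
  rw [mul_one] at h3
  have h4 := mem_frame_of_diag R h3
  have h6 := mem_T_of_frame R (Cfsg.Agent.KFacts.RgdRigid.GG_eq_top (G1_top CoxeterMatrix.F₄.toCoxeterSystem hφ hqq)) (g := y)
    (by rw [h]; exact h4)
  exact h6.1

section Eval

variable {n : ℕ} {hn : n ∣ q + 1} {c : mu K n} {ρ : K ≃+* K} {y : ↥(twistedE6 K q)} {c' : ℕ → K}
  (h : MulAut.conj y = dl hn c * fieldAut (stab_e6 q) ρ)
  (hf : ∀ (r : Fin 72) (t : K), (y : GL chevE6.Idx K) * x r.val t * (y : GL chevE6.Idx K)⁻¹ = x r.val (val c' r.val * t))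

include h hf

theorem eval_single (r : Fin 72) (hr : r.val ∈ [46, 25, 39, 32]) : val c' r.val = (ch (c : Kˣ) r.val : K) := by
  let u : ↥(twistedE6 K q) := ⟨x r.val 1, single_mem (one_pow q) hr⟩
  have h1 : ((MulAut.conj y u : ↥(twistedE6 K q)) : GL chevE6.Idx K) = (dl hn c * fieldAut (stab_e6 q) ρ) u := by
    rw [h]
  have h2 : ((MulAut.conj y u : ↥(twistedE6 K q)) : GL chevE6.Idx K) = x r.val (val c' r.val * 1) := hf r 1
  have h3 : (((dl hn c * fieldAut (stab_e6 q) ρ) u : ↥(twistedE6 K q)) : GL chevE6.Idx K) =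
      x r.val ((ch (c : Kˣ) r.val : K) * ρ 1) := by
    rw [MulAut.mul_apply, coe_dl, coe_fieldAut]
    show _ * Matrix.GeneralLinearGroup.map (ρ : K →+* K) (x r.val 1) * _ = _
    rw [map_x, dG_x]
  rw [h2, h3, map_one, mul_one, mul_one] at h1
  exact x_injective r.isLt h1

theorem eval_pair {i : Fin 4} {r s : Fin 72} (C : Cfsg.Agent.ChevalleyStructure.TwE6BN.PairOK.{u} i r.val s.val)
    (hr : (r.val, s.val) ∈ [(56, 36), (15, 35), (42, 37), (29, 34)]) (t : K) :
    val c' r.val * t = (ch (c : Kˣ) r.val : K) * ρ t ∧ val c' s.val * t ^ q = (ch (c : Kˣ) s.val : K) * ρ (t ^ q) := by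
  let u : ↥(twistedE6 K q) := ⟨x r.val t * x s.val (t ^ q), (pair_mem t hr :)⟩
  have h1 : ((MulAut.conj y u : ↥(twistedE6 K q)) : GL chevE6.Idx K) = (dl hn c * fieldAut (stab_e6 q) ρ) u := by
    rw [h]
  have h2 : ((MulAut.conj y u : ↥(twistedE6 K q)) : GL chevE6.Idx K) =
      x r.val (val c' r.val * t) * x s.val (val c' s.val * t ^ q) := by
    rw [← hf, ← hf]
    show (y : GL chevE6.Idx K) * (x r.val t * x s.val (t ^ q)) * (y : GL chevE6.Idx K)⁻¹ = _
    group
  have h3 : (((dl hn c * fieldAut (stab_e6 q) ρ) u : ↥(twistedE6 K q)) : GL chevE6.Idx K) =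
      x r.val ((ch (c : Kˣ) r.val : K) * ρ t) * x s.val ((ch (c : Kˣ) s.val : K) * ρ (t ^ q)) := by
    rw [MulAut.mul_apply, coe_dl, coe_fieldAut]
    show _ * Matrix.GeneralLinearGroup.map (ρ : K →+* K) (x r.val t * x s.val (t ^ q)) * _ = _
    rw [map_mul, map_x, map_x, ← dG_x, ← dG_x]
    group
  rw [h2, h3] at h1
  exact C.x_pair_inj h1

end Eval

/-- **Inner automorphisms of the form diagonal times field automorphism.** -/
theorem key (hq : IsPrimePow q) (hK : Fintype.card K = q ^ 2) {n : ℕ} (hn : n ∣ q + 1) (c : mu K n)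
    (ρ : K ≃+* K) (y : ↥(twistedE6 K q)) (h : MulAut.conj y = dl hn c * fieldAut (stab_e6 q) ρ) :
    ρ = 1 ∧ ∃ d : K, d ^ 3 = ((c : Kˣ) : K) := by
  obtain ⟨c', hc', hf⟩ := diag_conj_formula (mem_diag_of_eq hq hK hn c ρ y h)
  have hf' : ∀ (r : Fin 72) (t : K), (y : GL chevE6.Idx K) * x r.val t * (y : GL chevE6.Idx K)⁻¹ =
      x r.val (val c' r.val * t) := hf
  obtain ⟨t1, t2, t3, t4, t5, t6, t7, t8, t9, t10, t11, t12⟩ := mE_tab2
  have e46 : val c' 46 = 1 := by
    have := eval_single h hf' 46 (by decide)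
    rw [ch_apply] at this
    have t1' : mE (46 : Fin 72).val 0 - mE (46 : Fin 72).val 5 = 0 := t1
    rw [t1', zpow_zero] at this
    exact this
  have e39 : val c' 39 = 1 := by
    have := eval_single h hf' 39 (by decide)
    rw [ch_apply] at this
    have t1' : mE (39 : Fin 72).val 0 - mE (39 : Fin 72).val 5 = 0 := t3
    rw [t1', zpow_zero] at this
    exact this
  have p42 := fun t => eval_pair h hf' (r := 42) (s := 37) Cfsg.Agent.ChevalleyStructure.TwE6BN.pair2 (by decide) t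
  have p56 := fun t => eval_pair h hf' (r := 56) (s := 36) Cfsg.Agent.ChevalleyStructure.TwE6BN.pair3 (by decide) t
  have a42 : ch (c : Kˣ) 42 = 1 := by rw [ch_apply, t9, zpow_zero]
  have a37 : ch (c : Kˣ) 37 = 1 := by rw [ch_apply, t10, zpow_zero]
  have a56 : ch (c : Kˣ) 56 = c := by rw [ch_apply, t5, zpow_one]
  have a36 : ch (c : Kˣ) 36 = (c : Kˣ)⁻¹ := by rw [ch_apply, t6, zpow_neg, zpow_one]
  have b42 : ∀ t, val c' 42 * t = ρ t := by
    intro t
    have h1 : val c' 42 * t = (ch (c : Kˣ) 42 : K) * ρ t := (p42 t).1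
    rw [a42, Units.val_one, one_mul] at h1
    exact h1
  have e42 : val c' 42 = 1 := by
    have := b42 1
    rwa [mul_one, map_one] at this
  have e37 : val c' 37 = 1 := by
    have h1 : val c' 37 * 1 ^ q = (ch (c : Kˣ) 37 : K) * ρ (1 ^ q) := (p42 1).2
    rw [a37, Units.val_one, one_mul, one_pow, map_one, mul_one] at h1
    exact h1
  have e56 : val c' 56 = ((c : Kˣ) : K) := by
    have h1 : val c' 56 * 1 = (ch (c : Kˣ) 56 : K) * ρ 1 := (p56 1).1
    rw [a56, map_one, mul_one, mul_one] at h1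
    exact h1
  have e36 : val c' 36 = ((c : Kˣ) : K)⁻¹ := by
    have h1 : val c' 36 * 1 ^ q = (ch (c : Kˣ) 36 : K) * ρ (1 ^ q) := (p56 1).2
    rw [a36, one_pow, map_one, mul_one, mul_one, Units.val_inv_eq_inv_val] at h1
    exact h1
  refine ⟨?_, exists_cube hc' (c : Kˣ).ne_zero e56 e46 e42 e39 e37 e36⟩
  ext t
  rw [← b42 t, e42, one_mul]
  rfl

end Key

end Cfsg.Agent.H686.AO
end

-- part: H686/AO/TwESix
section
/-!
# `AutOdd` for `²E₆(q)`, `q` odd (helper686, task 4527)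
-/

set_option autoImplicit false
set_option linter.unusedSectionVars false

namespace Cfsg.Agent.H686.AO

open Cfsg Cfsg.Lie Subgroup Cfsg.Agent.ChevalleyStructure.TwE6Basic
open Cfsg.Agent.H70.ChevDiag
open Cfsg.Agent.H967.CopMat Cfsg.Agent.H967.CopTw Cfsg.Agent.H561.RV

universe u

/-- an element of `3`-power order which is not a cube -/
theorem exists_noncube {K : Type u} [Field K] [Finite K] {q k s : ℕ} (hK : Nat.card K = q ^ 2)
    (hs : ¬ 3 ∣ s) (hks : q + 1 = 3 ^ k * s) (hk : k ≠ 0) :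
    ∃ c : mu K (3 ^ k), ¬ ∃ d : K, d ^ 3 = ((c : Kˣ) : K) := by
  have hN : Nat.card Kˣ = (q - 1) * (q + 1) := by
    have h1 := Nat.sq_sub_sq q 1
    rw [one_pow] at h1
    rw [Nat.card_units, hK, h1, mul_comm]
  have hcyc : IsCyclic Kˣ := inferInstance
  obtain ⟨g, hg⟩ := hcyc.exists_ofOrder_eq_natCard
  have h3q : 3 ∣ q + 1 := by
    rw [hks]
    exact dvd_mul_of_dvd_left (dvd_pow_self 3 hk) s
  have h3q' : ¬ 3 ∣ q - 1 := by omega
  have hpos : 0 < Nat.card Kˣ := Nat.card_pos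
  have hd : 3 ^ k ∣ Nat.card Kˣ := by
    rw [hN, hks]
    exact dvd_mul_of_dvd_right (dvd_mul_right _ _) _
  have hc : orderOf (g ^ (Nat.card Kˣ / 3 ^ k)) = 3 ^ k := by
    rw [orderOf_pow_of_dvd (Nat.div_pos (Nat.le_of_dvd hpos hd) (by positivity)).ne' (by
      rw [hg]; exact Nat.div_dvd_of_dvd hd), hg, Nat.div_div_self hd hpos.ne']
  have hgc : (g ^ (Nat.card Kˣ / 3 ^ k)) ^ 3 ^ k = 1 := by
    rw [← pow_mul, Nat.div_mul_cancel hd, ← hg, pow_orderOf_eq_one]
  refine ⟨⟨g ^ (Nat.card Kˣ / 3 ^ k), hgc⟩, ?_⟩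
  rintro ⟨d, hdc⟩
  have hd0 : d ≠ 0 := by
    rintro rfl
    rw [zero_pow (by norm_num)] at hdc
    exact (Units.ne_zero _) hdc.symm
  set! u : Kˣ := Units.mk0 d hd0 with hu
  have h1 : u ^ 3 = g ^ (Nat.card Kˣ / 3 ^ k) := Units.ext hdc
  have h2 : u ^ 3 ^ (k + 1) = 1 := by
    rw [pow_succ' 3 k, pow_mul, h1, hgc]
  have h3 : orderOf u ∣ 3 ^ (k + 1) := orderOf_dvd_of_pow_eq_one h2
  obtain ⟨j, hj, hju⟩ := (Nat.dvd_prime_pow Nat.prime_three).1 h3
  have h4 : orderOf u ∣ (q - 1) * (q + 1) := by rw [← hN]; exact _root_.orderOf_dvd_natCard u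
  have h5 : 3 ^ j ∣ q + 1 := by
    rw [hju] at h4
    refine Nat.Coprime.dvd_of_dvd_mul_left ?_ h4
    exact Nat.Coprime.pow_left j ((Nat.Prime.coprime_iff_not_dvd Nat.prime_three).2 h3q')
  have h6 : j ≤ k := by
    by_contra hjk
    have h7 : 3 ^ (k + 1) ∣ q + 1 := (pow_dvd_pow 3 (by omega)).trans h5
    rw [hks, pow_succ] at h7
    exact hs ((mul_dvd_mul_iff_left (pow_ne_zero k (by norm_num))).1 h7)
  obtain ⟨i, rfl⟩ : ∃ i, k = i + 1 := ⟨k - 1, by omega⟩
  have h8 : u ^ 3 ^ (i + 1) = 1 := by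
    rw [← orderOf_dvd_iff_pow_eq_one, hju]
    exact pow_dvd_pow 3 h6
  have h9 : (g ^ (Nat.card Kˣ / 3 ^ (i + 1))) ^ 3 ^ i = 1 := by
    rw [← h1, ← pow_mul, ← pow_succ', h8]
  have h10 := orderOf_dvd_of_pow_eq_one h9
  rw [hc] at h10
  have h11 := (Nat.pow_dvd_pow_iff_le_right (by norm_num : 1 < 3)).1 h10
  omega

/-- the order of a product with a normalised subgroup -/
theorem card_dvd_sup {G : Type*} [Group G] [Finite G] {N Z : Subgroup G} (hn : Z ≤ normalizer (N : Set G))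
    (hd : ∀ z ∈ Z, z ∈ N → z = 1) : Nat.card N * Nat.card Z ∣ Nat.card ↥(Z ⊔ N) := by
  have hNle : N ≤ Z ⊔ N := le_sup_right
  have hZle : Z ≤ Z ⊔ N := le_sup_left
  have hnorm : (N.subgroupOf (Z ⊔ N)).Normal := by
    rw [← normalizer_eq_top_iff, ← subgroupOf_normalizer_eq hNle, subgroupOf_eq_top]
    exact sup_le hn le_normalizer
  have h1 : (N.subgroupOf (Z ⊔ N)).relIndex (Z.subgroupOf (Z ⊔ N)) ∣ (N.subgroupOf (Z ⊔ N)).index :=
    relIndex_dvd_index_of_normal _ _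
  rw [relIndex_subgroupOf hZle] at h1
  have h2 : N.relIndex Z = Nat.card Z := by
    have h3 : N.subgroupOf Z = ⊥ := by
      rw [eq_bot_iff]
      intro z hz
      exact mem_bot.2 (Subtype.ext (hd z z.2 hz))
    rw [relIndex, h3, index_bot]
  rw [h2] at h1
  have h4 := card_mul_index (N.subgroupOf (Z ⊔ N))
  rw [Nat.card_congr (subgroupOfEquivOfLe hNle).toEquiv] at h4
  rw [← h4]
  exact mul_dvd_mul_left _ h1

variable {K : Type u} [Field K] [Fintype K]

theorem autOdd_twE6 {q : ℕ} (hq : IsPrimePow q) (hodd : Odd q) (hK : Fintype.card K = q ^ 2) :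
    AutOdd ↥(twistedE6 K q) := by
  have hs := Cfsg.Agent.H254.isSolvable_out_of_sch (Cfsg.Agent.Schreier.TwESix.sch hq hK)
  obtain ⟨p, f, hp, hchar, hf, rfl, hK'⟩ := Cfsg.Agent.H565.CopTw.exists_params hq hK (by norm_num)
  have : Fact p.Prime := ⟨hp⟩
  have hout := S2130.result p f hK' hf
  set! S := ↥(twistedE6 K (p ^ f)) with hSdef
  have hfin : Finite (K ≃+* K) := Finite.of_injective (fun f : K ≃+* K => (f : K → K)) DFunLike.coe_injective
  have hfinG : Finite S := inferInstance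
  have hfinA : Finite (MulAut S) := Finite.of_injective (fun f : MulAut S => (f : S → S)) DFunLike.coe_injective
  obtain ⟨τ, hτ⟩ := exists_ringAut p (2 * f) hK'
  obtain ⟨b, m, hm, hfm⟩ := Nat.exists_eq_two_pow_mul_odd (n := f) (by omega)
  set! σ : K ≃+* K := τ ^ 2 ^ (b + 1) with hσ
  have h2f : 2 * f = 2 ^ (b + 1) * m := by rw [hfm]; ring
  have hoσ : orderOf σ = m := by
    rw [hσ, orderOf_pow_of_dvd (pow_ne_zero _ two_ne_zero) (by rw [hτ, h2f]; exact dvd_mul_right _ _), hτ, h2f]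
    exact Nat.mul_div_cancel_left m (Nat.two_pow_pos (b + 1))
  have hcardE : Nat.card (Fx σ) = (p ^ 2 ^ b) ^ 2 := by
    have h1 := card_Fx σ
    rw [hoσ, Nat.card_eq_fintype_card, hK', h2f] at h1
    have h2 : p ^ (2 ^ (b + 1) * m) = ((p ^ 2 ^ b) ^ 2) ^ m := by
      rw [← pow_mul, ← pow_mul, pow_succ, mul_assoc]
    rw [h2] at h1
    exact (Nat.pow_left_injective hm.pos.ne' h1).symm
  obtain ⟨φ, G₀, hφ, hφφ, hle1, hle2, hidx⟩ := exists_H0 (K := K) (E := Fx σ) (q := p ^ f) (q₀ := p ^ 2 ^ b) (m := m)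
    hq hodd (by rw [Nat.card_eq_fintype_card, hK]) hm (by rw [hfm, pow_mul]) hcardE
  set! H : Subgroup S := (G₀.map (em (Fx σ))).subgroupOf (twistedE6 K (p ^ f)) with hH
  -- the Sylow subgroup
  obtain ⟨Q⟩ : Nonempty (Sylow 2 H) := inferInstance
  have h1 : ¬ 2 ∣ (((Q : Subgroup H).map H.subtype).index :) := by
    rw [index_map_subtype]
    intro hd
    rcases (Nat.prime_two.dvd_mul).1 hd with h | h
    · exact Q.not_dvd_index h
    · exact hidx h
  set! P₀ : Sylow 2 S := (Q.isPGroup'.map H.subtype).toSylow h1 with hP₀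
  have hP₀H : ∀ x ∈ P₀, x ∈ H := fun x hx => map_subtype_le _ hx
  have hfixH : ∀ x ∈ H, fieldAut (stab_e6 (K := K) (p ^ f)) σ x = x := by
    rintro x ⟨y, hy, hyx⟩
    have h2 : Matrix.GeneralLinearGroup.map (Fx σ).subtype y = (x : GL chevE6.Idx K) := hyx
    apply Subtype.ext
    rw [coe_fieldAut, ← h2]
    exact map_fixed σ y
  -- the three-part of `q + 1`
  obtain ⟨k, s, hs3, hks⟩ := Nat.exists_eq_pow_mul_and_not_dvd (Nat.succ_ne_zero (p ^ f)) 3 (by norm_num)
  have hks' : p ^ f + 1 = 3 ^ k * s := hks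
  have hn : 3 ^ k ∣ p ^ f + 1 := by rw [hks']; exact dvd_mul_right _ _
  have hfixD : ∀ c : mu K (3 ^ k), ∀ x ∈ H, dl hn c x = x := by
    intro c x hx
    have hx0 : (x : GL chevE6.Idx K) ∈ H0 φ (p ^ f) := hle1 hx
    have hx1 := H0_le_CC (ch_mul (c : Kˣ)) hφ hφφ (ch_one (c : Kˣ)) hx0
    rw [mem_CC] at hx1
    apply Subtype.ext
    rw [coe_dl, hx1, mul_inv_cancel_right]
  set! D : Subgroup (MulAut S) := (dl hn).range with hD
  set! t : MulAut S := fieldAut (stab_e6 (K := K) (p ^ f)) σ with ht; rewrite [← ht] at hfixH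
  refine autOdd_of_index hs P₀ (zpowers t ⊔ D) ?_ ?_
  · intro ψ hψ x hx
    have hle : zpowers t ⊔ D ≤ MulAction.stabilizer (MulAut S) x := by
      refine sup_le ?_ ?_
      · rw [zpowers_le]
        exact hfixH x (hP₀H x hx)
      · rintro _ ⟨c, rfl⟩
        exact hfixD c x (hP₀H x hx)
    exact hle hψ
  · set! mk := QuotientGroup.mk' (Inn S) with hmk
    set! C := zpowers t ⊔ D with hC; rewrite [← hC]
    have hidx2 : (C.map mk).index = (C ⊔ Inn S).index := by
      rw [index_map, hmk, QuotientGroup.ker_mk', MonoidHom.range_eq_top.2 (QuotientGroup.mk'_surjective _),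
        index_top, mul_one]
    have hCmap : C.map mk = zpowers (mk t) ⊔ D.map mk := by
      rw [hC, Subgroup.map_sup, MonoidHom.map_zpowers]
    -- the key facts
    have key1 : ∀ (ρ : K ≃+* K) (c : mu K (3 ^ k)), mk (fieldAut (stab_e6 (K := K) (p ^ f)) ρ) = mk (dl hn c) → ρ = 1 := by
      intro ρ c hρ
      have h2 : mk (dl hn c⁻¹ * fieldAut (stab_e6 (K := K) (p ^ f)) ρ) = 1 := by
        rw [map_mul, hρ, ← map_mul, ← map_mul, inv_mul_cancel, map_one, map_one]
      obtain ⟨y, hy⟩ := (QuotientGroup.eq_one_iff _).1 h2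
      exact (key hq hK hn c⁻¹ ρ y hy).1
    have key2 : ∀ c : mu K (3 ^ k), mk (dl hn c) = 1 → ∃ d : K, d ^ 3 = ((c : Kˣ) : K) := by
      intro c hc
      obtain ⟨y, hy⟩ := (QuotientGroup.eq_one_iff _).1 hc
      refine (key hq hK hn c 1 y ?_).2
      rw [map_one, mul_one]
      exact hy
    -- the order of `t`
    have hinj : Function.Injective (mk.comp (fieldAut (stab_e6 (K := K) (p ^ f)))) := by
      rw [injective_iff_map_eq_one]
      intro ρ hρ
      refine key1 ρ 1 ?_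
      rw [map_one (dl hn), map_one mk]
      exact hρ
    have hot : Nat.card (zpowers (mk t)) = m := by
      rw [Nat.card_zpowers, ← hoσ]
      exact orderOf_injective _ hinj σ
    -- normalisation
    have hnorm : zpowers (mk t) ≤ normalizer ((D.map mk : Subgroup (Out S)) : Set (Out S)) := by
      have step : ∀ ρ : K ≃+* K, ∀ x ∈ D.map mk, mk (fieldAut (stab_e6 (K := K) (p ^ f)) ρ) * x *
          (mk (fieldAut (stab_e6 (K := K) (p ^ f)) ρ))⁻¹ ∈ D.map mk := by
        rintro ρ _ ⟨_, ⟨c, rfl⟩, rfl⟩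
        rw [← map_mul, ← map_inv, ← map_mul, fieldAut_dl, mul_inv_cancel_right]
        exact ⟨_, ⟨_, rfl⟩, rfl⟩
      rw [zpowers_le, mem_normalizer_iff]
      intro x
      refine ⟨fun hx => step σ x hx, fun hx => ?_⟩
      have h2 := step σ⁻¹ _ hx
      have e : mk (fieldAut (stab_e6 (K := K) (p ^ f)) σ⁻¹) = (mk t)⁻¹ := by rw [map_inv, map_inv]
      rw [e] at h2
      have e2 : (mk t)⁻¹ * (mk t * x * (mk t)⁻¹) * (mk t)⁻¹⁻¹ = x := by group
      rwa [e2] at h2
    have hdis : ∀ z ∈ zpowers (mk t), z ∈ D.map mk → z = 1 := by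
      rintro z hz ⟨_, ⟨c, rfl⟩, hcz⟩
      obtain ⟨j, rfl⟩ := mem_zpowers_iff.1 hz
      have h2 : σ ^ j = 1 := by
        refine key1 (σ ^ j) c ?_
        rw [hcz, map_zpow, map_zpow]
      have h3 : mk t ^ j = mk (fieldAut (stab_e6 (K := K) (p ^ f)) (σ ^ j)) := by rw [map_zpow, map_zpow]
      rw [h3, h2, map_one, map_one]
    have hdvd := card_dvd_sup hnorm hdis
    rw [← hCmap, hot] at hdvd
    -- the three part
    have hg : Nat.gcd 3 (p ^ f + 1) ∣ Nat.card ↥(D.map mk) := by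
      by_cases h3 : 3 ∣ p ^ f + 1
      · rw [Nat.gcd_eq_left h3]
        have hk : k ≠ 0 := by
          rintro rfl
          rw [hks', pow_zero, one_mul] at h3
          exact hs3 h3
        obtain ⟨c, hc⟩ := exists_noncube (K := K) (by rw [Nat.card_eq_fintype_card, hK]) hs3 hks' hk
        have hP : IsPGroup 3 ↥(D.map mk) := by
          have h4 : IsPGroup 3 (mu K (3 ^ k)) := fun x => ⟨k, Subtype.ext (by
            have := x.2
            exact mem_mu.1 this)⟩
          have h5 : D.map mk = (mk.comp (dl hn)).range := by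
            rw [hD, MonoidHom.range_comp]
          rw [h5]
          exact h4.of_surjective _ (mk.comp (dl hn)).rangeRestrict_surjective
        rcases hP.card_eq_or_dvd with h | h
        · exfalso
          apply hc
          refine key2 c ?_
          have h5 : D.map mk = ⊥ := (card_eq_one).1 h
          have h6 : mk (dl hn c) ∈ D.map mk := ⟨_, ⟨c, rfl⟩, rfl⟩
          rw [h5] at h6
          exact mem_bot.1 h6
        · exact h
      · rw [((Nat.Prime.coprime_iff_not_dvd Nat.prime_three).2 h3 : Nat.gcd 3 (p ^ f + 1) = 1)]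
        exact one_dvd _
    intro r hr hd
    rw [← hidx2] at hd
    have h2 : Nat.gcd 3 (p ^ f + 1) * m ∣ Nat.card ↥(C.map mk) := (mul_dvd_mul_right hg m).trans hdvd
    obtain ⟨e, he⟩ := h2
    have h3 := card_mul_index (C.map mk)
    rw [hout, he] at h3
    have h4 : Nat.gcd 3 (p ^ f + 1) * m * (e * (C.map mk).index) = Nat.gcd 3 (p ^ f + 1) * m * 2 ^ (b + 1) := by
      calc _ = Nat.gcd 3 (p ^ f + 1) * m * e * (C.map mk).index := by ring
        _ = 2 * Nat.gcd 3 (p ^ f + 1) * f := h3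
        _ = Nat.gcd 3 (p ^ f + 1) * (2 * f) := by ring
        _ = _ := by rw [h2f]; ring
    have h5 := Nat.eq_of_mul_eq_mul_left (Nat.mul_pos (Nat.gcd_pos_of_pos_left _ (by norm_num)) hm.pos) h4
    have h6 : r ∣ 2 ^ (b + 1) := by
      rw [← h5]
      exact dvd_mul_of_dvd_right hd e
    exact (Nat.prime_dvd_prime_iff_eq hr Nat.prime_two).1 (hr.dvd_of_dvd_pow h6)

/-- **`²E₆(q)`** -/
theorem autOdd_2e6 {F : Type} [Field F] [Fintype F] {q : ℕ} (hq : IsPrimePow q) (hodd : Odd q)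
    (hF : Fintype.card F = q ^ 2) : AutOdd (Lie.twistedE6 F q) := autOdd_twE6 hq hodd hF

end Cfsg.Agent.H686.AO
end

-- part: H561/RV/Own
section
/-!
# TEAM RV, own characteristic `p ∈ π` (helper561)

`G` acts on the building `Δ` with the system `S : Sys Δ G p`, `p ∈ π`, and the quotients `G_x / U x` are abelian.
A Hall `π`-subgroup containing `U x` is determined by its type (`eq_of_Ty_eq`), so an automorphism fixing the type of `H`
fixes the class of `H` (`fixC_of_type`).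
-/

set_option autoImplicit false
set_option linter.unusedSectionVars false

open scoped Pointwise

namespace Cfsg.Agent.H561.RV.Own

open Cfsg Subgroup Cfsg.Agent.Tits.Core Cfsg.Agent.Tits.Core.Bldg Cfsg.Agent.Tits.Exchange Cfsg.Agent.Tits
open Cfsg.Agent.FixBN (Sys)
open Cfsg.Agent.FixOdd (Tw)
open Cfsg.Agent.H454.PiBS
open Cfsg.Agent.H988.CPi (PiN PiN')

variable {I : Type*} {M : CoxeterMatrix I} {W : Type*} [Group W] {cs : CoxeterSystem M W} {C : Type*}

local prefix:100 "ℓ" => cs.length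

variable {Δ : Bldg cs C} {G : Type*} [Group G] [MulAction G C] {p : ℕ}
variable (S : Sys Δ G p) [F : OppRes.Cox cs]

/-- `H` maps `x` into the residue of its type -/
theorem smul_mem_Res (hth : Δ.Thick) {H : Subgroup G} {x : C} (hx : S.U x ≤ H) :
    ∀ n : ℕ, ∀ h ∈ H, ℓ (Δ.δ x (h • x)) = n → Δ.δ x (h • x) ∈ WJ cs (Ty Δ H x) := by
  intro n
  induction n using Nat.strong_induction_on with
  | _ n ih =>
  intro h hh hn
  by_cases hw : Δ.δ x (h • x) = 1
  · rw [hw]; exact one_mem _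
  set y := h • x with hy
  have hUy : S.U y ≤ H := by
    intro u hu
    have h1 := S.conj_mem_U hu h⁻¹
    rw [hy, inv_smul_smul] at h1
    have h2 := mul_mem (mul_mem hh (hx h1)) (inv_mem hh)
    have h3 : h * (h⁻¹ * u * h⁻¹⁻¹) * h⁻¹ = u := by group
    rwa [h3] at h2
  obtain ⟨s, hs⟩ := cs.exists_leftDescent_of_ne_one hw
  have hs' : ℓ (cs.simple s * Δ.δ x y) < ℓ (Δ.δ x y) := hs
  -- the projection `z` of `y` on the `s`-panel of `x`
  obtain ⟨z, hz1, hz2⟩ := Δ.exists_step y x s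
  have hyz : Δ.δ z y = cs.simple s * Δ.δ x y := by
    rw [Δ.symm y z, hz2, Δ.symm x y, mul_inv_rev, inv_inv, cs.inv_simple]
  have hzx : Δ.δ z x = cs.simple s := Δ.δ_symm_simple hz1
  -- another chamber of the panel
  obtain ⟨z', hz', hne⟩ : ∃ z', Δ.δ x z' = cs.simple s ∧ z' ≠ z := by
    obtain ⟨a, b, hab, ha, hb⟩ := hth x s
    by_cases haz : a = z
    · exact ⟨b, hb, fun h => hab (haz.trans h.symm)⟩
    · exact ⟨a, ha, haz⟩
  have hzz' : Δ.δ z z' = cs.simple s :=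
    Δ.δ_eq_of_mem_Pan (x := x) (Δ.mem_Pan_of_δ hz1) (Δ.mem_Pan_of_δ hz') fun h => hne h.symm
  have hyz' : Δ.δ y z' = Δ.δ y x := by
    have h1 := Δ.step_lt y z z' s hzz' (by
      rw [hz2, mul_assoc, cs.simple_mul_simple_self, mul_one, Δ.symm x y, ← cs.length_inv, mul_inv_rev, inv_inv,
        cs.inv_simple, cs.length_inv]
      exact hs')
    rw [h1, hz2, mul_assoc, cs.simple_mul_simple_self, mul_one]
  obtain ⟨u, hu, hux⟩ := S.exists_move (hyz'.symm)
  have hsT : s ∈ Ty Δ H x := ⟨u, hUy hu, by rw [hux]; exact hz'⟩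
  -- move `x` to `z`
  obtain ⟨k₀, hk₀, hks⟩ := hsT
  obtain ⟨v, hv, hvz⟩ := S.exists_move (hks.trans hz1.symm)
  have hk : v * k₀ ∈ H := mul_mem (hx hv) hk₀
  have hkx : (v * k₀) • x = z := by rw [mul_smul, hvz]
  have h5 : Δ.δ x (((v * k₀)⁻¹ * h) • x) = cs.simple s * Δ.δ x y := by
    rw [← hyz, ← hkx, mul_smul, ← S.iso (v * k₀) x, smul_inv_smul]
  have h6 := ih (ℓ (cs.simple s * Δ.δ x y)) (by rw [← hn]; exact hs') ((v * k₀)⁻¹ * h)
    (mul_mem (inv_mem hk) hh) (by rw [h5])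
  rw [h5] at h6
  have h7 : Δ.δ x y = cs.simple s * (cs.simple s * Δ.δ x y) := by
    rw [← mul_assoc, cs.simple_mul_simple_self, one_mul]
  rw [h7]
  exact mul_mem (simple_mem_WJ cs ⟨k₀, hk₀, hks⟩) h6

/-- the group generated by the `U y`, `y` in a residue -/
def LR (S : Sys Δ G p) (J : Set I) (x : C) : Subgroup G := ⨆ y : Δ.Res J x, S.U y

theorem U_le_LR {J : Set I} {x y : C} (hy : y ∈ Δ.Res J x) : S.U y ≤ LR S J x :=
  le_iSup (fun y : Δ.Res J x => S.U y) ⟨y, hy⟩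

theorem LR_le {H : Subgroup G} {x : C} (hx : S.U x ≤ H) : LR S (Ty Δ H x) x ≤ H := by
  refine iSup_le ?_
  rintro ⟨y, hy⟩
  obtain ⟨h, hh, rfl⟩ := exists_smul_of_mem_Res S hx hy
  intro u hu
  have h1 := S.conj_mem_U hu h⁻¹
  rw [inv_smul_smul] at h1
  have h2 := mul_mem (mul_mem hh (hx h1)) (inv_mem hh)
  have h3 : h * (h⁻¹ * u * h⁻¹⁻¹) * h⁻¹ = u := by group
  rwa [h3] at h2

/-- `LR` is transitive on the residue -/
theorem LR_trans (hth : Δ.Thick) {J : Set I} {x y : C} (hy : y ∈ Δ.Res J x) : ∃ l ∈ LR S J x, l • x = y := by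
  have hx : S.U x ≤ LR S J x := U_le_LR S (Δ.self_mem_Res J x)
  have hJ : J ⊆ Ty Δ (LR S J x) x := by
    intro s hs
    obtain ⟨a, b, hab, ha, hb⟩ := hth x s
    have haJ : a ∈ Δ.Res J x := Δ.Pan_subset_Res hs x (Δ.mem_Pan_of_δ ha)
    have hax : Δ.δ a x = cs.simple s := Δ.δ_symm_simple ha
    have hab' : Δ.δ a b = cs.simple s :=
      Δ.δ_eq_of_mem_Pan (x := x) (Δ.mem_Pan_of_δ ha) (Δ.mem_Pan_of_δ hb) hab
    obtain ⟨u, hu, hux⟩ := S.exists_move (hax.trans hab'.symm)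
    exact ⟨u, U_le_LR S haJ hu, by rw [hux]; exact hb⟩
  exact exists_smul_of_mem_Res S hx (Δ.Res_mono hJ x hy)

include S in
theorem smul_Res {J : Set I} {x : C} {g : G} (hg : g • x = x) {y : C} (hy : y ∈ Δ.Res J x) : g • y ∈ Δ.Res J x := by
  rw [mem_Res] at hy ⊢
  have h1 := S.iso g x y
  rw [hg] at h1
  rw [h1]; exact hy

/-- the stabiliser of `x` normalises `LR` -/
theorem stab_le_normalizer {J : Set I} {x : C} :
    MulAction.stabilizer G x ≤ normalizer (LR S J x : Set G) := by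
  have key : ∀ g ∈ MulAction.stabilizer G x, ∀ u ∈ LR S J x, g * u * g⁻¹ ∈ LR S J x := by
    intro g hg u hu
    have h1 : (LR S J x).map (MulAut.conj g).toMonoidHom ≤ LR S J x := by
      rw [LR, Subgroup.map_iSup]
      refine iSup_le ?_
      rintro ⟨y, hy⟩
      rintro _ ⟨v, hv, rfl⟩
      exact U_le_LR S (smul_Res S (MulAction.mem_stabilizer_iff.1 hg) hy) (S.conj_mem_U hv g)
    exact h1 ⟨u, hu, rfl⟩
  intro g hg
  rw [mem_normalizer_iff]
  intro u
  constructor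
  · exact key g hg u
  · intro hu
    have := key g⁻¹ (inv_mem hg) _ hu
    have h7 : g⁻¹ * (g * u * g⁻¹) * g⁻¹⁻¹ = u := by group
    rwa [h7] at this

/-- **Hall subgroups containing `U x` with the same type are equal.** -/
theorem eq_of_Ty_eq [Finite G] (hth : Δ.Thick) {x : C}
    (hab : ∀ a ∈ MulAction.stabilizer G x, ∀ b ∈ MulAction.stabilizer G x, a * b * a⁻¹ * b⁻¹ ∈ S.U x)
    {π : Set ℕ} {H H' : Subgroup G} (hH : IsPiHall π H) (hH' : IsPiHall π H') (hx : S.U x ≤ H) (hx' : S.U x ≤ H')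
    (hT : Ty Δ H x = Ty Δ H' x) : H = H' := by
  set J := Ty Δ H x with hJ
  set! K := H ⊓ MulAction.stabilizer G x with hK
  set! K' := H' ⊓ MulAction.stabilizer G x with hK'
  have hnorm : ∀ {N : Subgroup G}, S.U x ≤ N → MulAction.stabilizer G x ≤
      normalizer ((N ⊓ MulAction.stabilizer G x : Subgroup G) : Set G) := by
    intro N hN
    have key : ∀ g ∈ MulAction.stabilizer G x, ∀ u ∈ N ⊓ MulAction.stabilizer G x,
        g * u * g⁻¹ ∈ N ⊓ MulAction.stabilizer G x := by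
      intro g hg u hu
      refine mem_inf.2 ⟨?_, mul_mem (mul_mem hg (mem_inf.1 hu).2) (inv_mem hg)⟩
      have hu := mem_inf.1 hu
      have h1 := hab g hg u hu.2
      have h2 : g * u * g⁻¹ = (g * u * g⁻¹ * u⁻¹) * u := by group
      rw [h2]
      exact mul_mem (hN h1) hu.1
    intro g hg
    rw [mem_normalizer_iff]
    intro u
    constructor
    · exact key g hg u
    · intro hu
      have := key g⁻¹ (inv_mem hg) _ hu
      have h7 : g⁻¹ * (g * u * g⁻¹) * g⁻¹⁻¹ = u := by group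
      rwa [h7] at this
  have hpi : ∀ {N : Subgroup G}, IsPiHall π N → ∀ {L : Subgroup G}, L ≤ N → IsPiSubgroup π L := by
    intro N hN L hL r hr hd
    exact hN.1 r hr (hd.trans (card_dvd_of_le hL))
  have h1 : IsPiSubgroup π (K ⊔ K') :=
    pi_sup (inf_le_right.trans (hnorm hx')) (hpi hH inf_le_left) (hpi hH' inf_le_left)
  have h2 : IsPiSubgroup π (K ⊔ K' ⊔ LR S J x) :=
    pi_sup ((sup_le inf_le_right inf_le_right).trans (stab_le_normalizer S)) h1 (hpi hH (LR_le S hx))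
  -- a Hall subgroup contained in a `π`-subgroup
  have hmax : ∀ {N : Subgroup G}, IsPiHall π N → ∀ {L : Subgroup G}, IsPiSubgroup π L → N ≤ L → N = L := by
    intro N hN L hL hle
    refine le_antisymm hle ?_
    rw [← relIndex_eq_one]
    by_contra hne
    obtain ⟨r, hr, hd⟩ := Nat.exists_prime_and_dvd hne
    have h3 : r ∣ Nat.card L := hd.trans (relIndex_dvd_card N L)
    exact hN.2 r hr (hL r hr h3) (hd.trans (relIndex_dvd_index_of_le hle))
  have hle : H ≤ K ⊔ K' ⊔ LR S J x := by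
    intro h hh
    have h3 := smul_mem_Res S hth hx _ h hh rfl
    obtain ⟨l, hl, hlx⟩ := LR_trans S hth (J := J) (x := x) (y := h • x) h3
    have h4 : l⁻¹ * h ∈ K := by
      refine mem_inf.2 ⟨mul_mem (inv_mem (LR_le S hx hl)) hh, ?_⟩
      rw [MulAction.mem_stabilizer_iff, mul_smul, ← hlx, inv_smul_smul]
    have h5 : h = l * (l⁻¹ * h) := by group
    rw [h5]
    exact mul_mem ((le_sup_right : LR S J x ≤ _) hl) ((le_sup_left.trans le_sup_left : K ≤ K ⊔ K' ⊔ LR S J x) h4)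
  have hle' : H' ≤ K ⊔ K' ⊔ LR S J x := by
    intro h hh
    have h3 := smul_mem_Res S hth hx' _ h hh rfl
    rw [← hT] at h3
    obtain ⟨l, hl, hlx⟩ := LR_trans S hth (J := J) (x := x) (y := h • x) h3
    have h4 : l⁻¹ * h ∈ K' := by
      have hl' : l ∈ H' := LR_le S hx' (by rw [← hT]; exact hl)
      refine mem_inf.2 ⟨mul_mem (inv_mem hl') hh, ?_⟩
      rw [MulAction.mem_stabilizer_iff, mul_smul, ← hlx, inv_smul_smul]
    have h5 : h = l * (l⁻¹ * h) := by group
    rw [h5]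
    exact mul_mem ((le_sup_right : LR S J x ≤ _) hl) ((le_sup_right.trans le_sup_left : K' ≤ K ⊔ K' ⊔ LR S J x) h4)
  rw [hmax hH h2 hle, ← hmax hH' h2 hle']

omit F in
include S in
/-- types of conjugates -/
theorem Ty_conj (K : Subgroup G) (z : C) (g : G) :
    Ty Δ (K.map (MulAut.conj g).toMonoidHom) (g • z) = Ty Δ K z := by
  ext s
  constructor
  · rintro ⟨_, ⟨k, hk, rfl⟩, hs⟩
    refine ⟨k, hk, ?_⟩
    have h1 : Δ.δ (g • z) ((g * k * g⁻¹) • g • z) = cs.simple s := hs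
    rw [mul_smul, inv_smul_smul, mul_smul, S.iso] at h1
    exact h1
  · rintro ⟨k, hk, hs⟩
    refine ⟨g * k * g⁻¹, ⟨k, hk, rfl⟩, ?_⟩
    rw [mul_smul, inv_smul_smul, mul_smul, S.iso]
    exact hs

/-- **An automorphism preserving the type of `H` fixes its class.** -/
theorem fixC_of_type [Finite G] (hth : Δ.Thick) (htr : ∀ x y : C, ∃ g : G, g • x = y)
    (hab : ∀ x : C, ∀ a ∈ MulAction.stabilizer G x, ∀ b ∈ MulAction.stabilizer G x, a * b * a⁻¹ * b⁻¹ ∈ S.U x)
    {π : Set ℕ} {H : Subgroup G} (hH : IsPiHall π H) {x : C} (hx : S.U x ≤ H) (t : Tw Δ G)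
    (hT : t.σ '' Ty Δ H x = Ty Δ H x) : FixC t.τ H := by
  obtain ⟨g, hg⟩ := htr (t.θ x) x
  set! H' := (H.map t.τ.toMonoidHom).map (MulAut.conj g).toMonoidHom with hH'
  have h1 : IsPiHall π H' := by
    have h2 : IsPiHall π (H.map t.τ.toMonoidHom) := by
      refine ⟨?_, ?_⟩
      · have h3 : PiN π (Nat.card (H.map t.τ.toMonoidHom)) := by
          rw [card_map_of_injective t.τ.injective]; exact hH.1
        exact h3
      · have h3 : PiN' π (H.map t.τ.toMonoidHom).index := by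
          rw [index_map_of_bijective t.τ.bijective]; exact hH.2
        exact h3
    exact Cfsg.Agent.H988.CPi.isPiHall_smul h2 g
  have h2 : S.U x ≤ H' := by
    intro u hu
    have h3 := S.conj_mem_U hu g⁻¹
    rw [← hg, inv_smul_smul] at h3
    have h4 := U_map_le S t hx h3
    refine ⟨_, h4, ?_⟩
    show g * (g⁻¹ * u * g⁻¹⁻¹) * g⁻¹ = u
    group
  have h3 : Ty Δ H' x = Ty Δ H x := by
    conv_lhs => rw [← hg]
    rw [hH', Ty_conj S, Ty_map, hT]
  have h4 : H' = H := eq_of_Ty_eq S hth (hab x) h1 hH h2 hx h3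
  refine ⟨g⁻¹, ?_⟩
  have h5 : H.map t.τ.toMonoidHom = H'.map (MulAut.conj g⁻¹).toMonoidHom := by
    rw [hH', map_map]
    have h6 : (MulAut.conj g⁻¹).toMonoidHom.comp (MulAut.conj g).toMonoidHom = MonoidHom.id G := by
      ext y
      simp only [mul_assoc, _root_.map_inv, _root_.MulEquiv.toMonoidHom_eq_coe, _root_.MonoidHom.coe_comp, _root_.MonoidHom.coe_coe, _root_.MulAut.coe_inv, _root_.Function.comp_apply, _root_.MulAut.conj_apply, _root_.MulAut.conj_symm_apply, _root_.inv_mul_cancel_left, _root_.inv_mul_cancel, _root_.mul_one, _root_.MonoidHom.id_apply]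
    rw [h6, map_id]
  exact h5.trans (by rw [h4])

end Cfsg.Agent.H561.RV.Own
end

-- part: H561/RV/OwnSplit
section
/-!
# TEAM RV, own characteristic `p ∈ π`: the rows for all simple groups with a split (B,N)-pair (helper561)

* `srow` : `SRow π K` for a finite simple group `K` with `AbSplit p K`, `p ∈ π`;
* `fixC_of_coprime_six` : automorphisms of order prime to six fix the classes of Hall `π`-subgroups;
* `fixC_of_odd` : the same for odd order if the diagram is not of type `D₄`.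
-/

set_option autoImplicit false
set_option linter.unusedSectionVars false

open scoped Pointwise

namespace Cfsg.Agent.H561.RV.Own

open Cfsg Subgroup Cfsg.Agent.Tits.Core Cfsg.Agent.Tits.Core.Bldg Cfsg.Agent.Tits.Exchange Cfsg.Agent.Tits
open Cfsg.Agent.FixBN (Sys Split)
open Cfsg.Agent.FixOdd (Tw)
open Cfsg.Agent.H454.PiBS
open Cfsg.Agent.H561.RV.DiagSym
open Cfsg.Agent.LieRecognition.CoxClass (Outcome Lab mD)

section abstract

variable {I : Type*} {M : CoxeterMatrix I} {W : Type*} [Group W] {cs : CoxeterSystem M W} {C : Type*}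

variable {Δ : Bldg cs C} {G : Type*} [Group G] [MulAction G C] {p : ℕ}
variable (S : Sys Δ G p) [F : OppRes.Cox cs]

include S in
/-- the type permutation is determined by the automorphism -/
theorem sigma_unique (hth : Δ.Thick) [Nonempty C] (t t' : Tw Δ G) (h : t.τ = t'.τ) : t.σ = t'.σ := by
  have hθ : ∀ x, t.θ x = t'.θ x := by
    intro x
    apply eq_of_U_le S hth
    intro u hu
    have h1 : (S.U (t.θ x)).map t.τ.symm.toMonoidHom ≤ S.U x := by
      apply S.max _ _ ((S.isP _).map _)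
      rintro _ ⟨v, hv, rfl⟩
      change t.τ.symm v • x = x
      apply t.θ.injective
      rw [t.θ_smul, MulEquiv.apply_symm_apply, S.fix _ v hv]
    have h2 : t.τ.symm u ∈ S.U x := h1 ⟨u, hu, rfl⟩
    have h3 : (S.U x).map t'.τ.toMonoidHom ≤ S.U (t'.θ x) := by
      apply S.max _ _ ((S.isP _).map _)
      rintro _ ⟨v, hv, rfl⟩
      change t'.τ v • t'.θ x = t'.θ x
      rw [← t'.θ_smul, S.fix _ v hv]
    have h4 : t'.τ (t.τ.symm u) ∈ S.U (t'.θ x) := h3 ⟨_, h2, rfl⟩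
    rwa [← h, MulEquiv.apply_symm_apply] at h4
  ext i
  obtain ⟨x⟩ := (inferInstance : Nonempty C)
  obtain ⟨y, hy, -⟩ := Δ.exists_step x x i
  have h1 := t.δ_θ x y
  have h2 := t'.δ_θ x y
  rw [hy, t.φ_simple] at h1
  rw [hy, t'.φ_simple, ← hθ, ← hθ, h1] at h2
  exact F.inj h2

/-- composition -/
def twMul (t t' : Tw Δ G) : Tw Δ G where
  τ := t.τ * t'.τ
  θ := t.θ * t'.θ
  φ := t'.φ.trans t.φ
  σ := t.σ * t'.σ
  φ_simple i := by
    rw [MulEquiv.trans_apply, t'.φ_simple, t.φ_simple]; rfl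
  δ_θ x y := by
    rw [Equiv.Perm.mul_apply, Equiv.Perm.mul_apply, t.δ_θ, t'.δ_θ]; rfl
  θ_smul g x := by
    rw [Equiv.Perm.mul_apply, t'.θ_smul, t.θ_smul]; rfl

/-- the identity -/
def twOne : Tw Δ G where
  τ := 1
  θ := 1
  φ := MulEquiv.refl W
  σ := 1
  φ_simple _ := rfl
  δ_θ _ _ := rfl
  θ_smul _ _ := rfl

/-- the homomorphism to the permutations of the types -/
noncomputable def rho (hth : Δ.Thick) [Nonempty C] (htw : ∀ φ : MulAut G, ∃ t : Tw Δ G, t.τ = φ) :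
    MulAut G →* Equiv.Perm I where
  toFun φ := (htw φ).choose.σ
  map_one' := sigma_unique S hth _ twOne (htw 1).choose_spec
  map_mul' φ ψ := sigma_unique S hth _ (twMul (htw φ).choose (htw ψ).choose) (by
    rw [(htw (φ * ψ)).choose_spec]
    change φ * ψ = (htw φ).choose.τ * (htw ψ).choose.τ
    rw [(htw φ).choose_spec, (htw ψ).choose_spec])

theorem rho_eq (hth : Δ.Thick) [Nonempty C] (htw : ∀ φ : MulAut G, ∃ t : Tw Δ G, t.τ = φ) (t : Tw Δ G) :
    rho S hth htw t.τ = t.σ := sigma_unique S hth _ t (htw t.τ).choose_spec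

theorem rho_mem [Finite I] [Finite W] (hth : Δ.Thick) [Nonempty C] (htw : ∀ φ : MulAut G, ∃ t : Tw Δ G, t.τ = φ)
    (φ : MulAut G) : rho S hth htw φ ∈ autM M := by
  obtain ⟨t, rfl⟩ := htw φ
  rw [rho_eq]
  exact tw_mem_autM t

/-- the class of `H` is fixed if and only if the type is -/
theorem fixC_iff_rho [Finite G] [hp : Fact p.Prime] (hth : Δ.Thick) [Nonempty C]
    (htw : ∀ φ : MulAut G, ∃ t : Tw Δ G, t.τ = φ) (htr : ∀ x y : C, ∃ g : G, g • x = y)
    (hab : ∀ x : C, ∀ a ∈ MulAction.stabilizer G x, ∀ b ∈ MulAction.stabilizer G x, a * b * a⁻¹ * b⁻¹ ∈ S.U x)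
    {π : Set ℕ} (hpi : p ∈ π) {H : Subgroup G} (hH : IsPiHall π H) {x : C} (hx : S.U x ≤ H) (φ : MulAut G) :
    FixC φ H ↔ rho S hth htw φ '' Ty Δ H x = Ty Δ H x := by
  obtain ⟨t, rfl⟩ := htw φ
  rw [rho_eq]
  constructor
  · rintro ⟨s, hs⟩
    have h1 : IsPiHall π (H.map (MulAut.conj s).toMonoidHom) := Cfsg.Agent.H988.CPi.isPiHall_smul hH s
    have h2 : S.U (s • x) ≤ H.map (MulAut.conj s).toMonoidHom := by
      intro u hu
      have h3 := S.conj_mem_U hu s⁻¹
      rw [inv_smul_smul] at h3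
      exact ⟨_, hx h3, by simp [mul_assoc]⟩
    have h4 : S.U (t.θ x) ≤ H.map (MulAut.conj s).toMonoidHom := by
      rw [← hs]; exact U_map_le S t hx
    have h5 := Ty_eq S hth hpi h1 h4 h2
    rw [Ty_conj S] at h5
    have h6 := Ty_map t H x
    have h7 : H.map t.τ.toMonoidHom = H.map (MulAut.conj s).toMonoidHom := hs
    rw [h7, h5] at h6
    exact h6.symm
  · exact fixC_of_type S hth htr hab hH hx t

end abstract

/-! ### Split (B,N)-pairs -/

universe u

variable {K : Type u} [Group K] {P : Cfsg.BNPair K} {p : ℕ} {U : Subgroup K}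

/-- a split (B,N)-pair with `B / U` abelian (the body of `Omega.ML.LieRow.CRB.HasSplitAb`) -/
def AbSplit (p : ℕ) (K : Type u) [Group K] : Prop :=
  ∃ (P : Cfsg.BNPair K) (U : Subgroup K), P.S.Nonempty ∧ Split P p U ∧
    ∀ x ∈ P.B, ∀ y ∈ P.B, x * y * x⁻¹ * y⁻¹ ∈ U

end Cfsg.Agent.H561.RV.Own
end

-- part: H565/RV/Match
section
/-!
# TEAM RV: the number of the residues of a building of type `D₄` (helper565)

* `Match cs K` : the left cosets of `W_K` are matched by pairs `{c, s c}`, `s` simple;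
* `dvd_card_orbit` : if all panels have `N` chambers and `Match cs K` then `N` divides the number of residues of type `K`;
* `match_D4` : `Match cs {k}ᶜ` for every node `k` of `D₄`.
-/

set_option autoImplicit false
set_option linter.unusedSectionVars false

open scoped Pointwise

namespace Cfsg.Agent.H565.RV

open Cfsg Subgroup Cfsg.Agent.Tits.Core Cfsg.Agent.Tits.Core.Bldg Cfsg.Agent.Tits.Exchange Cfsg.Agent.Tits
open Cfsg.Agent.FixBN (Sys)
open Cfsg.Agent.FixOdd (Tw)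
open Cfsg.Agent.H454.PiBS
open Cfsg.Agent.LieRecognition.CoxClass (Lab mD)

variable {I : Type*} {M : CoxeterMatrix I} {W : Type*} [Group W] {cs : CoxeterSystem M W} {C : Type*}

local prefix:100 "ℓ" => cs.length

/-- a perfect matching of the left cosets of `W_K` by simple reflections -/
def Match (cs : CoxeterSystem M W) (K : Set I) : Prop :=
  ∃ f : W ⧸ WJ cs K → I, ∀ c, cs.simple (f c) • c ≠ c ∧ f (cs.simple (f c) • c) = f c

/-- a matching from an equivariant map -/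
theorem match_of_hom {Y : Type*} (φ : W →* Equiv.Perm Y) (y0 : Y) (K : Set I)
    (hK : ∀ i ∈ K, φ (cs.simple i) y0 = y0) (F : Y → I)
    (hF : ∀ y, φ (cs.simple (F y)) y ≠ y ∧ F (φ (cs.simple (F y)) y) = F y) : Match cs K := by
  have hfix : ∀ w ∈ WJ cs K, φ w y0 = y0 := by
    intro w hw
    induction hw using Subgroup.closure_induction with
    | mem y hy => obtain ⟨i, hi, rfl⟩ := hy; exact hK i hi
    | one => rw [map_one]; rfl
    | mul a b _ _ ha hb => rw [map_mul, Equiv.Perm.mul_apply, hb, ha]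
    | inv a _ ha => rw [map_inv, Equiv.Perm.inv_eq_iff_eq, ha]
  let g : W ⧸ WJ cs K → Y := Quotient.lift (fun w => φ w y0) (by
    intro a b hab
    have h1 : a⁻¹ * b ∈ WJ cs K := QuotientGroup.leftRel_apply.1 hab
    have h2 := hfix _ h1
    change φ a y0 = φ b y0
    rw [map_mul, Equiv.Perm.mul_apply, map_inv, Equiv.Perm.inv_eq_iff_eq] at h2
    exact h2.symm)
  have hg : ∀ (w : W) (c : W ⧸ WJ cs K), g (w • c) = φ w (g c) := by
    intro w c
    induction c using QuotientGroup.induction_on with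
    | _ a => 
      change φ (w * a) y0 = φ w (φ a y0)
      rw [map_mul]; rfl
  refine ⟨fun c => F (g c), fun c => ⟨fun h => ?_, ?_⟩⟩
  · apply (hF (g c)).1
    rw [← hg, h]
  · change F (g (cs.simple (F (g c)) • c)) = F (g c)
    rw [hg]
    exact (hF (g c)).2

/-! ### the tables -/

section tables

def act0 : List (List (Fin 8)) := [[1, 0, 2, 3, 4, 5, 7, 6], [0, 2, 1, 3, 4, 6, 5, 7], [0, 1, 3, 2, 5, 4, 6, 7], [0, 1, 4, 5, 2, 3, 6, 7]]

def mt0 : List (Fin 4) := [0, 0, 2, 2, 2, 2, 0, 0]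

def act1 : List (List (Fin 24)) := [[0, 2, 1, 5, 6, 3, 4, 9, 8, 7, 10, 15, 12, 17, 14, 11, 19, 13, 21, 16, 22, 18, 20, 23], [1, 0, 2, 3, 4, 8, 10, 11, 5, 13, 6, 7, 16, 9, 18, 17, 12, 15, 14, 19, 20, 21, 23, 22], [0, 3, 5, 1, 7, 2, 9, 4, 8, 6, 14, 11, 12, 18, 10, 15, 20, 21, 13, 22, 16, 17, 19, 23], [0, 4, 6, 7, 1, 9, 2, 3, 12, 5, 10, 11, 8, 16, 14, 15, 13, 19, 20, 17, 18, 22, 21, 23]]

def mt1 : List (Fin 4) := [1, 1, 2, 3, 0, 2, 0, 3, 3, 1, 2, 0, 3, 1, 2, 0, 0, 2, 3, 0, 3, 2, 1, 1]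

def act2 : List (List (Fin 8)) := [[0, 1, 3, 2, 5, 4, 6, 7], [0, 2, 1, 3, 4, 6, 5, 7], [1, 0, 2, 3, 4, 5, 7, 6], [0, 1, 4, 5, 2, 3, 6, 7]]

def mt2 : List (Fin 4) := [2, 2, 0, 0, 0, 0, 2, 2]

def act3 : List (List (Fin 8)) := [[0, 1, 3, 2, 5, 4, 6, 7], [0, 2, 1, 3, 4, 6, 5, 7], [0, 1, 4, 5, 2, 3, 6, 7], [1, 0, 2, 3, 4, 5, 7, 6]]

def mt3 : List (Fin 4) := [3, 3, 0, 0, 0, 0, 3, 3]

/-- the content of a table -/
structure Tb (m : ℕ) (a : Fin 4 → Fin m → Fin m) (F : Fin m → Fin 4) (k : Fin 4) (y0 : Fin m) : Prop where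
  invol : ∀ i y, a i (a i y) = y
  rel : ∀ i j : Fin 4, ∀ y, (fun y => a i (a j y))^[mD 4 i j] y = y
  fix : ∀ i, i ≠ k → a i y0 = y0
  mt : ∀ y, a (F y) y ≠ y ∧ F (a (F y) y) = F y

def fn {m : ℕ} (l : List (List (Fin (m + 1)))) (i : Fin 4) (y : Fin (m + 1)) : Fin (m + 1) := (l.getD i.val []).getD y.val 0

def gn {m : ℕ} (l : List (Fin 4)) (y : Fin (m + 1)) : Fin 4 := l.getD y.val 0

theorem tb0 : Tb 8 (fn act0) (gn mt0) 0 0 := by constructor <;> decide +kernel

theorem tb1 : Tb 24 (fn act1) (gn mt1) 1 0 := by constructor <;> decide +kernel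

theorem tb2 : Tb 8 (fn act2) (gn mt2) 2 0 := by constructor <;> decide +kernel

theorem tb3 : Tb 8 (fn act3) (gn mt3) 3 0 := by constructor <;> decide +kernel

theorem match_of_tb (v : Fin 4 ≃ I) (hv : Lab M v (mD 4)) {m : ℕ} {a : Fin 4 → Fin m → Fin m} {F : Fin m → Fin 4}
    {k : Fin 4} {y0 : Fin m} (T : Tb m a F k y0) : Match cs ({v k}ᶜ : Set I) := by
  let P : Fin 4 → Equiv.Perm (Fin m) := fun i => ⟨a i, a i, T.invol i, T.invol i⟩
  have hP : ∀ i y, P i y = a i y := fun i y => rfl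
  have hlift : CoxeterMatrix.IsLiftable M (fun b => P (v.symm b)) := by
    intro i j
    obtain ⟨i, rfl⟩ := v.surjective i
    obtain ⟨j, rfl⟩ := v.surjective j
    simp only [Equiv.symm_apply_apply]
    rw [hv]
    ext y
    rw [Equiv.Perm.one_apply]
    congr 1
    have h1 : ∀ n : ℕ, ((P i * P j) ^ n) y = (fun y => a i (a j y))^[n] y := by
      intro n
      induction n with
      | zero => rfl
      | succ n ih =>
        rw [pow_succ', Equiv.Perm.mul_apply, ih, Function.iterate_succ_apply']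
        rfl
    rw [h1, T.rel i j y]
  let φ : W →* Equiv.Perm (Fin m) := cs.lift ⟨_, hlift⟩
  have hφ : ∀ i, φ (cs.simple (v i)) = P i := by
    intro i
    have := cs.lift_apply_simple hlift (v i)
    rw [Equiv.symm_apply_apply] at this
    exact this
  refine match_of_hom φ y0 _ ?_ (fun y => v (F y)) ?_
  · intro b hb
    obtain ⟨i, rfl⟩ := v.surjective b
    rw [hφ]
    refine T.fix i fun h => ?_
    rw [h] at hb
    exact hb rfl
  · intro y
    rw [hφ]
    exact ⟨(T.mt y).1, congrArg v (T.mt y).2⟩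

/-- **the matchings for `D₄`** -/
theorem match_D4 (v : Fin 4 ≃ I) (hv : Lab M v (mD 4)) (k : I) : Match cs ({k}ᶜ : Set I) := by
  obtain ⟨k, rfl⟩ := v.surjective k
  fin_cases k
  · exact match_of_tb v hv tb0
  · exact match_of_tb v hv tb1
  · exact match_of_tb v hv tb2
  · exact match_of_tb v hv tb3

end tables

end Cfsg.Agent.H565.RV
end

-- part: H565/RV/MatchB
section
/-!
# TEAM RV: the number of residues of given type (helper565)

* `dvd_card_RS` : if all panels have `N` chambers and `Match cs K` then `N` divides the number of residues of type `K`;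
* `ty_empty_or_univ` : type `D₄`, `H` a Hall `π`-subgroup with `p ∈ π`: the type of `H` is empty or everything.
-/

set_option autoImplicit false
set_option linter.unusedSectionVars false

open scoped Pointwise

namespace Cfsg.Agent.H565.RV

open Cfsg Subgroup Cfsg.Agent.Tits.Core Cfsg.Agent.Tits.Core.Bldg Cfsg.Agent.Tits.Exchange Cfsg.Agent.Tits
open Cfsg.Agent.FixBN (Sys)
open Cfsg.Agent.FixOdd (Tw)
open Cfsg.Agent.H454.PiBS
open Cfsg.Agent.LieRecognition.CoxClass (Lab mD)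

variable {I : Type*} {M : CoxeterMatrix I} {W : Type*} [Group W] {cs : CoxeterSystem M W} {C : Type*}

local prefix:100 "ℓ" => cs.length

/-- the residues of type `K` -/
abbrev RS (Δ : Bldg cs C) (K : Set I) : Type _ := {R : Set C // ∃ y, R = Δ.Res K y}

/-- the coset attached to a chamber and a residue -/
noncomputable def col (Δ : Bldg cs C) {K : Set I} (x : C) (R : RS Δ K) : W ⧸ WJ cs K :=
  QuotientGroup.mk (Δ.δ x R.2.choose)

variable {Δ : Bldg cs C} {K : Set I}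

theorem RS.eq_res (R : RS Δ K) {z : C} (hz : z ∈ R.1) : R.1 = Δ.Res K z := by
  obtain ⟨y, hy⟩ := R.2
  rw [hy] at hz ⊢
  exact (Δ.Res_eq_of_mem hz).symm

theorem col_eq (x : C) (R : RS Δ K) {z : C} (hz : z ∈ R.1) : col Δ x R = QuotientGroup.mk (Δ.δ x z) := by
  have h1 : R.2.choose ∈ R.1 := by
    have h2 := R.2.choose_spec
    have h3 : R.2.choose ∈ Δ.Res K R.2.choose := Δ.self_mem_Res _ _
    exact (Set.ext_iff.1 h2 _).2 h3
  rw [col, eq_comm, QuotientGroup.eq]
  refine δ_mem_coset x ?_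
  rw [← R.eq_res hz]
  exact h1

theorem exists_of_col (x : C) (R : RS Δ K) {w : W} (h : col Δ x R = QuotientGroup.mk w) : ∃ y ∈ R.1, Δ.δ x y = w := by
  obtain ⟨z, hz⟩ := R.2
  have hzR : z ∈ R.1 := by rw [hz]; exact Δ.self_mem_Res _ _
  rw [col_eq x R hzR, QuotientGroup.eq] at h
  obtain ⟨t, ht, ht'⟩ := Δ.exists_δ_mul_mem_Res x (Δ.self_mem_Res K z) h
  rw [mul_inv_cancel_left] at ht'
  exact ⟨t, by rw [hz]; exact ht, ht'⟩

variable {G : Type*} [Group G] [MulAction G C] {p : ℕ} (S : Sys Δ G p) [F : OppRes.Cox cs]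

/-- the action on the residues -/
def smulRS (g : G) (R : RS Δ K) : RS Δ K := ⟨g • R.1, by
  obtain ⟨y, hy⟩ := R.2
  exact ⟨g • y, by rw [hy, S.smul_Res]⟩⟩

omit F in
theorem col_smul (g : G) (x : C) (R : RS Δ K) : col Δ (g • x) (smulRS S g R) = col Δ x R := by
  obtain ⟨z, hz⟩ := R.2
  have hzR : z ∈ R.1 := by rw [hz]; exact Δ.self_mem_Res _ _
  rw [col_eq x R hzR, col_eq (z := g • z), S.iso]
  exact Set.smul_mem_smul_set hzR

include S in
/-- homogeneity -/
theorem card_col (hth : Δ.Thick) (x z : C) (c : W ⧸ WJ cs K) :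
    Nat.card {R : RS Δ K // col Δ z R = c} = Nat.card {R : RS Δ K // col Δ x R = c} := by
  obtain ⟨g, rfl⟩ := exists_smul S hth x z
  refine (Nat.card_congr ?_).symm
  refine ⟨fun R => ⟨smulRS S g R.1, by rw [col_smul, R.2]⟩, fun R => ⟨smulRS S g⁻¹ R.1, ?_⟩, ?_, ?_⟩
  · have h := col_smul S g⁻¹ (g • x) R.1
    rw [inv_smul_smul] at h
    rw [h, R.2]
  · rintro ⟨⟨R, hR⟩, h⟩
    apply Subtype.ext
    apply Subtype.ext
    exact inv_smul_smul g R
  · rintro ⟨⟨R, hR⟩, h⟩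
    apply Subtype.ext
    apply Subtype.ext
    exact smul_inv_smul g R

omit F in
/-- the chambers of a panel as seen from `y` -/
theorem δ_of_panel {i : I} {x z : C} (hz : z ∈ Δ.Res {i} x) (y : C) : Δ.δ z y = Δ.δ x y ∨ Δ.δ z y = cs.simple i * Δ.δ x y := by
  rcases mem_Res_single.1 hz with rfl | h
  · exact Or.inl rfl
  · rcases Δ.step y x z i h with h1 | h1
    · right
      rw [Δ.symm y z, h1, Δ.symm x y, mul_inv_rev, inv_inv, cs.inv_simple]
    · left
      rw [Δ.symm y z, h1, Δ.symm x y, inv_inv]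

omit F in
theorem δ_panel_lt {i : I} {x z : C} (hz : z ∈ Δ.Res {i} x) (hne : z ≠ x) {y : C}
    (hl : ℓ (Δ.δ x y) < ℓ (cs.simple i * Δ.δ x y)) : Δ.δ z y = cs.simple i * Δ.δ x y := by
  have h : Δ.δ z x = cs.simple i := by
    rcases mem_Res_single.1 hz with h | h
    · exact absurd h hne
    · rw [Δ.symm x z, h, cs.inv_simple]
  refine Δ.δ_mul_of h rfl ?_
  have h1 := cs.length_simple_mul (Δ.δ x y) i
  rw [cs.length_simple]
  omega

include S in
/-- **the pairs** -/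
theorem dvd_pair [Finite C] (hth : Δ.Thick) {N : ℕ} {i : I} {x : C} (hN : Nat.card (Δ.Res {i} x) = N)
    (c : W ⧸ WJ cs K) (hc : cs.simple i • c ≠ c) :
    N ∣ Nat.card {R : RS Δ K // col Δ x R = c} + Nat.card {R : RS Δ K // col Δ x R = cs.simple i • c} := by
  classical
  have hfR : Finite (RS Δ K) := Subtype.finite
  have hss : ∀ c : W ⧸ WJ cs K, cs.simple i • cs.simple i • c = c := fun c => by
    rw [← mul_smul, cs.simple_mul_simple_self, one_smul]
  -- an element of minimal length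
  obtain ⟨w, hw, hmin⟩ : ∃ w : W, ((QuotientGroup.mk w : W ⧸ WJ cs K) = c ∨
      (QuotientGroup.mk w : W ⧸ WJ cs K) = cs.simple i • c) ∧
      ∀ w' : W, ((QuotientGroup.mk w' : W ⧸ WJ cs K) = c ∨
      (QuotientGroup.mk w' : W ⧸ WJ cs K) = cs.simple i • c) → ℓ w ≤ ℓ w' := by
    obtain ⟨w0, hw0⟩ := QuotientGroup.mk_surjective c
    have hne : {w : W | (QuotientGroup.mk w : W ⧸ WJ cs K) = c ∨
      (QuotientGroup.mk w : W ⧸ WJ cs K) = cs.simple i • c}.Nonempty := ⟨w0, Or.inl hw0⟩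
    obtain ⟨w, hw, hm⟩ := WellFounded.has_min (measure fun w : W => ℓ w).wf _ hne
    exact ⟨w, hw, fun w' hw' => not_lt.1 (hm w' hw')⟩
  wlog hwc : (QuotientGroup.mk w : W ⧸ WJ cs K) = c generalizing c
  · have hw' : (QuotientGroup.mk w : W ⧸ WJ cs K) = cs.simple i • c := hw.resolve_left hwc
    have h1 := this (cs.simple i • c) (by rw [hss]; exact fun h => hc h.symm) (Or.inl hw')
      (fun w' h => hmin w' (by rw [hss] at h; exact h.symm)) hw'
    rw [hss, add_comm] at h1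
    exact h1
  have hmk : (QuotientGroup.mk (cs.simple i * w) : W ⧸ WJ cs K) = cs.simple i • c := by rw [← hwc]; rfl
  have hlt : ℓ w < ℓ (cs.simple i * w) := by
    have h1 := hmin _ (Or.inr hmk)
    have h2 := cs.length_simple_mul w i
    omega
  -- uniqueness of the first chamber
  have huniq : ∀ (R : RS Δ K) (z z' : C), z ∈ Δ.Res {i} x → z' ∈ Δ.Res {i} x → col Δ z R = c → col Δ z' R = c → z = z' := by
    intro R z z' hz hz' h1 h2
    by_contra hne
    rw [← hwc] at h1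
    obtain ⟨y, hy, hzy⟩ := exists_of_col z R h1
    have h3 : z' ∈ Δ.Res {i} z := by rw [Δ.Res_eq_of_mem hz]; exact hz'
    have h4 := δ_panel_lt h3 (fun h => hne h.symm) (y := y) (by rw [hzy]; exact hlt)
    rw [col_eq z' R hy, h4, hzy, hmk] at h2
    exact hc h2
  -- existence
  have hex : ∀ R : RS Δ K, (col Δ x R = c ∨ col Δ x R = cs.simple i • c) → ∃ z ∈ Δ.Res {i} x, col Δ z R = c := by
    intro R hR
    rcases hR with h | h
    · exact ⟨x, Δ.self_mem_Res _ _, h⟩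
    · rw [← hmk] at h
      obtain ⟨y, hy, hxy⟩ := exists_of_col x R h
      obtain ⟨z, hz, hzy⟩ := FixBN.exists_first Δ (x := x) (y := y) (i := i) (by
        rw [hxy, ← mul_assoc, cs.simple_mul_simple_self, one_mul]; exact hlt)
      refine ⟨z, mem_Res_single.2 (Or.inr hz), ?_⟩
      rw [col_eq z R hy, hzy, hxy, ← mul_assoc, cs.simple_mul_simple_self, one_mul, hwc]
  have hback : ∀ (R : RS Δ K) (z : C), z ∈ Δ.Res {i} x → col Δ z R = c → (col Δ x R = c ∨ col Δ x R = cs.simple i • c) := by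
    intro R z hz h
    rw [← hwc] at h
    obtain ⟨y, hy, hzy⟩ := exists_of_col z R h
    have h3 : x ∈ Δ.Res {i} z := Δ.mem_Res_symm hz
    rw [col_eq x R hy]
    rcases δ_of_panel h3 y with h4 | h4
    · left; rw [h4, hzy, hwc]
    · right; rw [h4, hzy, hmk]
  -- the count
  have e1 : {R : RS Δ K // col Δ x R = c ∨ col Δ x R = cs.simple i • c} ≃
      Σ z : Δ.Res {i} x, {R : RS Δ K // col Δ z.1 R = c} := by
    refine ⟨fun R => ⟨⟨(hex R.1 R.2).choose, (hex R.1 R.2).choose_spec.1⟩, ⟨R.1, (hex R.1 R.2).choose_spec.2⟩⟩,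
      fun a => ⟨a.2.1, hback a.2.1 a.1.1 a.1.2 a.2.2⟩, fun R => rfl, ?_⟩
    rintro ⟨⟨z, hz⟩, ⟨R, hR⟩⟩
    have h1 := hex R (hback R z hz hR)
    have h2 : h1.choose = z := huniq R _ _ h1.choose_spec.1 hz h1.choose_spec.2 hR
    simp only [Sigma.mk.injEq, Subtype.mk.injEq]
    refine ⟨h2, ?_⟩
    congr! 
  have e2 : Nat.card {R : RS Δ K // col Δ x R = c ∨ col Δ x R = cs.simple i • c} =
      Nat.card {R : RS Δ K // col Δ x R = c} + Nat.card {R : RS Δ K // col Δ x R = cs.simple i • c} := by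
    rw [← Nat.card_sum]
    refine Nat.card_congr (Equiv.trans ?_ (subtypeOrEquiv _ _ ?_))
    · exact Equiv.refl _
    · rw [Pi.disjoint_iff]
      intro R
      rw [Prop.disjoint_iff]
      rintro ⟨h1, h2⟩
      exact hc (h2.symm.trans h1)
  have := Fintype.ofFinite (Δ.Res {i} x)
  rw [← e2, Nat.card_congr e1, Nat.card_sigma, Finset.sum_congr rfl (fun z _ => card_col S hth x z.1 c),
    Finset.sum_const, Finset.card_univ, ← Nat.card_eq_fintype_card, hN, smul_eq_mul]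
  exact Dvd.intro _ rfl

include S in
/-- **the number of residues** -/
theorem dvd_card_RS [Finite C] [Finite W] (hth : Δ.Thick) {N : ℕ} (x : C) (hN : ∀ i, Nat.card (Δ.Res {i} x) = N)
    (hM : Match cs K) : N ∣ Nat.card (RS Δ K) := by
  classical
  obtain ⟨f, hf⟩ := hM
  have hfR : Finite (RS Δ K) := Subtype.finite
  have := Fintype.ofFinite (W ⧸ WJ cs K)
  rw [Nat.card_congr (Equiv.sigmaFiberEquiv (col Δ x (K := K))).symm, Nat.card_sigma]
  rw [← CharP.cast_eq_zero_iff (ZMod N), Nat.cast_sum]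
  refine Finset.sum_involution (fun c _ => cs.simple (f c) • c) ?_ ?_ (fun _ _ => Finset.mem_univ _) ?_
  · intro c _
    rw [← Nat.cast_add, CharP.cast_eq_zero_iff (ZMod N) N]
    exact dvd_pair S hth (hN (f c)) c (hf c).1
  · intro c _ _
    exact (hf c).1
  · intro c _
    rw [(hf c).2, ← mul_smul, cs.simple_mul_simple_self, one_smul]

include S in
theorem index_stab_Res [Finite G] (hth : Δ.Thick) (x : C) (K : Set I) :
    (MulAction.stabilizer G (Δ.Res K x)).index = Nat.card (RS Δ K) := by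
  rw [MulAction.index_stabilizer, ← Nat.card_coe_set_eq]
  refine Nat.card_congr (Equiv.subtypeEquivRight fun R => ?_)
  constructor
  · rintro ⟨g, rfl⟩
    exact ⟨g • x, S.smul_Res g K x⟩
  · rintro ⟨y, rfl⟩
    obtain ⟨g, hg⟩ := exists_smul S hth x y
    exact ⟨g, by change g • Δ.Res K x = _; rw [S.smul_Res, hg]⟩

/-! ### the sizes of the panels -/

omit F in
/-- projection between parallel panels: `s w = w t`, `ℓ (s w) > ℓ w`: the panels have the same size -/
theorem card_panel_le [Finite C] {i j : I} {w : W} (h : cs.simple i * w = w * cs.simple j)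
    (hl : ℓ w < ℓ (cs.simple i * w)) {x y : C} (hxy : Δ.δ x y = w) :
    Nat.card (Δ.Res {i} x) ≤ Nat.card (Δ.Res {j} y) := by
  have hl' : ℓ (w * cs.simple j) = ℓ w + 1 := by
    rw [← h]
    have h2 := cs.length_simple_mul w i
    omega
  -- from each `z` a chamber at distance `w`
  have key : ∀ z ∈ Δ.Res {i} x, ∃ z' ∈ Δ.Res {j} y, Δ.δ z z' = w := by
    intro z hz
    rcases δ_of_panel hz y with h1 | h1
    · exact ⟨y, Δ.self_mem_Res _ _, h1.trans hxy⟩
    · rw [hxy, h] at h1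
      obtain ⟨z', hz', h2⟩ := Δ.exists_between h1 (by rw [hl', cs.length_simple])
      exact ⟨z', Δ.mem_Res_symm (mem_Res_single.2 (Or.inr h2)), hz'⟩
  choose f hf1 hf2 using key
  refine Nat.card_le_card_of_injective (fun z : Δ.Res {i} x => (⟨f z.1 z.2, hf1 z.1 z.2⟩ : Δ.Res {j} y)) ?_
  rintro ⟨z, hz⟩ ⟨z', hz'⟩ he
  have he' : f z hz = f z' hz' := congrArg Subtype.val he
  apply Subtype.ext
  change z = z'
  by_contra hne
  have h3 : z' ∈ Δ.Res {i} z := by rw [Δ.Res_eq_of_mem hz]; exact hz'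
  have h4 := δ_panel_lt h3 (fun h => hne h.symm) (y := f z hz) (by rw [hf2]; exact hl)
  rw [he', hf2] at h4
  have h5 := hf2 z hz
  rw [he'] at h5
  rw [h5] at h4
  rw [← h4] at hl
  exact lt_irrefl _ hl

theorem card_panel_eq_of_three [Finite C] {i j : I} (hM : M i j = 3) (x y : C) (htr : ∀ (i : I) (a b : C), Nat.card (Δ.Res {i} a) = Nat.card (Δ.Res {i} b)) :
    Nat.card (Δ.Res {i} x) = Nat.card (Δ.Res {j} y) := by
  have hMs : M j i = 3 := by rw [M.symmetric]; exact hM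
  have hrel : cs.simple i * cs.simple j * cs.simple i = cs.simple j * cs.simple i * cs.simple j := by
    have h1 := cs.simple_mul_simple_pow i j
    rw [hM] at h1
    have h2 : cs.simple i * cs.simple j * cs.simple i * (cs.simple j * cs.simple i * cs.simple j) = 1 := by
      rw [← h1, pow_succ, pow_two]; simp only [mul_assoc]
    have h3 := eq_inv_of_mul_eq_one_left h2
    rw [h3]
    simp only [mul_inv_rev, cs.inv_simple, mul_assoc]
  have key : ∀ {i j : I}, M i j = 3 → cs.simple i * cs.simple j * cs.simple i = cs.simple j * cs.simple i * cs.simple j →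
      ∀ x y : C, Nat.card (Δ.Res {i} x) ≤ Nat.card (Δ.Res {j} y) := by
    intro i j hM hrel x y
    -- `w = j i`: `i w = i j i = j i j = w j`
    have hij : i ≠ j := by
      rintro rfl
      rw [M.diagonal] at hM
      omega
    have h1 : cs.simple i * (cs.simple j * cs.simple i) = cs.simple j * cs.simple i * cs.simple j := by
      rw [← mul_assoc, hrel]
    have hl : ℓ (cs.simple j * cs.simple i) < ℓ (cs.simple i * (cs.simple j * cs.simple i)) := by
      by_contra hcon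
      have hji : cs.simple j * cs.simple i ≠ 1 := fun h => hij (F.inj (by
        have := eq_inv_of_mul_eq_one_left h
        rw [cs.inv_simple] at this
        exact this.symm))
      have e1 := cs.length_simple_mul (cs.simple i) j
      have e2 := cs.length_simple_mul (cs.simple j * cs.simple i) i
      rw [cs.length_simple] at e1
      have e3 : ℓ (cs.simple j * cs.simple i) ≠ 0 := fun h => hji (cs.length_eq_zero_iff.1 h)
      obtain ⟨k, hk⟩ := (cs.length_eq_one_iff (w := cs.simple i * (cs.simple j * cs.simple i))).1 (by omega)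
      have hkm : k = i ∨ k = j := by
        have h3 : cs.simple k ∈ WJ cs ({i, j} : Set I) := by
          rw [← hk]
          have hi : cs.simple i ∈ WJ cs ({i, j} : Set I) := Subgroup.subset_closure ⟨i, Or.inl rfl, rfl⟩
          have hj : cs.simple j ∈ WJ cs ({i, j} : Set I) := Subgroup.subset_closure ⟨j, Or.inr rfl, rfl⟩
          exact mul_mem hi (mul_mem hj hi)
        exact F.descent_mem _ _ h3 k (by rw [cs.simple_mul_simple_self, cs.length_one, cs.length_simple]; exact one_pos)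
      rcases hkm with rfl | rfl
      · exact hji (mul_eq_left.1 hk)
      · have h4 : cs.simple i * cs.simple k * (cs.simple i * cs.simple k) = 1 := by
          calc cs.simple i * cs.simple k * (cs.simple i * cs.simple k)
              = cs.simple i * (cs.simple k * cs.simple i) * cs.simple k := by simp only [mul_assoc]
            _ = 1 := by rw [hk, cs.simple_mul_simple_self]
        have h5 := cs.simple_mul_simple_pow i k
        rw [hM, pow_succ, pow_two, h4, one_mul] at h5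
        have h6 := eq_inv_of_mul_eq_one_left h5
        rw [cs.inv_simple] at h6
        exact hij (F.inj h6)
    obtain ⟨z, hz⟩ := Δ.exists_δ x (cs.simple j * cs.simple i)
    exact (card_panel_le h1 hl hz).trans (le_of_eq (htr j _ _))
  exact le_antisymm (key hM hrel x y) (key hMs hrel.symm y x)

/-! ### the types of the Hall subgroups -/

include S in
/-- **the type of a Hall subgroup, for the types with matchings and equal parameters** -/
theorem ty_empty_or_univ [Finite G] [Finite W] [hp : Fact p.Prime] (hth : Δ.Thick) {N : ℕ}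
    (hN : ∀ i x, Nat.card (Δ.Res {i} x) = N) (hM : ∀ k : I, Match cs ({k}ᶜ : Set I)) {π : Set ℕ} {H : Subgroup G}
    (hH : IsPiHall π H) {x : C} (hx : S.U x ≤ H) : Ty Δ H x = ∅ ∨ Ty Δ H x = Set.univ := by
  have hfC : Finite C := by
    have hsurj : Function.Surjective (fun g : G => g • x) := fun y => exists_smul S hth x y
    exact Finite.of_surjective _ hsurj
  by_contra hcon
  rw [not_or] at hcon
  obtain ⟨h1, h2⟩ := hcon
  obtain ⟨i, hi⟩ := Set.nonempty_iff_ne_empty.2 h1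
  obtain ⟨k, hk⟩ := (Set.ne_univ_iff_exists_notMem _).1 h2
  -- `N` divides the index
  have hd1 : N ∣ H.index := by
    have h3 := dvd_card_RS S hth x (fun i => hN i x) (hM k)
    rw [← index_stab_Res S hth x] at h3
    refine h3.trans (index_dvd_of_le fun h hh => ?_)
    refine smul_Res_eq S hth hx ?_ hh
    intro j hj
    rw [Set.mem_compl_singleton_iff]
    rintro rfl
    exact hk hj
  -- `N` divides the order
  have hd2 : N ∣ Nat.card H := by
    set! X := H ⊓ MulAction.stabilizer G (Δ.Res {i} x) with hX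
    have h4 : ∀ g ∈ X, ∀ z ∈ Δ.Res {i} x, g • z ∈ Δ.Res {i} x := by
      rintro g ⟨-, hg⟩ z hz
      have hg' : g • Δ.Res {i} x = Δ.Res {i} x := hg
      rw [← hg']
      exact Set.smul_mem_smul_set hz
    have h5 : (MulAction.orbit X x) = Δ.Res {i} x := by
      ext z
      constructor
      · rintro ⟨⟨g, hg⟩, rfl⟩
        exact h4 g hg x (Δ.self_mem_Res _ _)
      · intro hz
        obtain ⟨h, hh, hhz⟩ := exists_smul_of_mem_Res S hx (Δ.Res_mono (Set.singleton_subset_iff.2 hi) x hz)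
        refine ⟨⟨h, hh, ?_⟩, hhz⟩
        change h • Δ.Res {i} x = Δ.Res {i} x
        rw [S.smul_Res, hhz, Δ.Res_eq_of_mem hz]
    have h6 : Nat.card (MulAction.orbit X x) ∣ Nat.card X := by
      rw [Nat.card_coe_set_eq, ← MulAction.index_stabilizer]
      exact Subgroup.index_dvd_card _
    rw [h5, hN] at h6
    exact h6.trans (Subgroup.card_dvd_of_le inf_le_left)
  -- a prime divisor of `N`
  have hN1 : N ≠ 1 := by
    intro h
    obtain ⟨a, b, hab, ha, hb⟩ := hth x i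
    have h7 := hN i x
    rw [h] at h7
    have h8 : Nat.card (Δ.Res {i} x) ≤ 1 := by omega
    have := Finite.card_le_one_iff_subsingleton.1 h8
    have h9 := Subsingleton.elim (⟨a, mem_Res_single.2 (Or.inr ha)⟩ : Δ.Res {i} x) ⟨b, mem_Res_single.2 (Or.inr hb)⟩
    exact hab (congrArg Subtype.val h9)
  obtain ⟨r, hr, hrN⟩ := Nat.exists_prime_and_dvd hN1
  exact hH.2 r hr (hH.1 r hr (hrN.trans hd2)) (hrN.trans hd1)

include S in
/-- **type `D₄`** -/
theorem ty_D4 [Finite G] [Finite W] [hp : Fact p.Prime] (hth : Δ.Thick) (v : Fin 4 ≃ I) (hv : Lab M v (mD 4))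
    {π : Set ℕ} {H : Subgroup G} (hH : IsPiHall π H) {x : C} (hx : S.U x ≤ H) :
    Ty Δ H x = ∅ ∨ Ty Δ H x = Set.univ := by
  have hfC : Finite C := by
    have hsurj : Function.Surjective (fun g : G => g • x) := fun y => exists_smul S hth x y
    exact Finite.of_surjective _ hsurj
  have htr : ∀ (i : I) (a b : C), Nat.card (Δ.Res {i} a) = Nat.card (Δ.Res {i} b) := by
    intro i a b
    obtain ⟨g, rfl⟩ := exists_smul S hth a b
    rw [← S.smul_Res]
    exact (Nat.card_congr (Equiv.Set.image _ _ (MulAction.injective g)))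
  have h3 : ∀ (i : I) (z : C), Nat.card (Δ.Res {i} z) = Nat.card (Δ.Res {v 1} x) := by
    intro i z
    obtain ⟨i, rfl⟩ := v.surjective i
    fin_cases i
    · exact card_panel_eq_of_three (by rw [hv]; decide) z x htr
    · exact htr _ _ _
    · exact card_panel_eq_of_three (by rw [hv]; decide) z x htr
    · exact card_panel_eq_of_three (by rw [hv]; decide) z x htr
  exact ty_empty_or_univ S hth h3 (fun k => match_D4 v hv k) hH hx

end Cfsg.Agent.H565.RV
end

-- part: H565/RV/CRowOwn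
section
/-!
# TEAM RV, rows `ORow` and `CRow` in the own characteristic `p ∈ π` (helper565)

* `oRow_of_abSplit` : `K` a finite simple group with `AbSplit p K`, `p ∈ π`: automorphisms of odd order fix the classes of
  Hall `π`-subgroups (also for the diagram `D₄`);
* `oRow_own`, `cRow_own` : the simple groups of Lie type in characteristic `p`.
-/

set_option autoImplicit false
set_option linter.unusedSectionVars false

open scoped Pointwise

namespace Cfsg.Agent.H565.RV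

open Cfsg Subgroup Cfsg.Agent.Tits.Core Cfsg.Agent.Tits.Core.Bldg Cfsg.Agent.Tits.Exchange Cfsg.Agent.Tits
open Cfsg.Agent.FixBN (Sys Split)
open Cfsg.Agent.FixOdd (Tw)
open Cfsg.Agent.H454.PiBS
open Cfsg.Agent.H561.RV Cfsg.Agent.H561.RV.DiagSym Cfsg.Agent.H561.RV.Own
open Cfsg.Agent.LieRecognition.CoxClass (Outcome Lab mD)

universe u

/-- the data attached to `AbSplit`, with the types for `D₄` (after helper561) -/
theorem exists_data' {K : Type u} [Group K] {p : ℕ} [Finite K] [IsSimpleGroup K] (hp : p.Prime) (h : AbSplit p K)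
    {π : Set ℕ} (hpi : p ∈ π) :
    ∃ (I : Type u) (_ : Finite I) (M : CoxeterMatrix I) (ρ : MulAut K →* Equiv.Perm I) (T : Subgroup K → Set I),
      (∀ φ, ρ φ ∈ autM M) ∧ (Nat.card I ≤ 2 ∨ Outcome M) ∧
      (∀ H : Subgroup K, IsPiHall π H → ∀ φ : MulAut K, FixC φ H ↔ ρ φ '' T H = T H) ∧
      (IsD4 M → ∀ H : Subgroup K, IsPiHall π H → T H = ∅ ∨ T H = Set.univ) := by
  obtain ⟨P, U, hne, hs, hT⟩ := h
  have : Fact p.Prime := ⟨hp⟩
  have hN : ((P.B ⊓ P.N).subgroupOf P.N).Normal := OfBN.normal_subgroupOf P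
  obtain ⟨M, cs, hcs⟩ := S0320.result P
  have hI : Finite P.S := FixBN.OfBN.finite_I (Equiv.refl P.S)
  have hC : OppRes.Cox cs := inferInstance
  have hW : Finite (OfBN.WP P) := inferInstance
  have hth := OfBN.thick P (Equiv.refl P.S) cs hcs
  let S := FixBN.OfBN.sys (Equiv.refl P.S) cs hcs hs
  have htw : ∀ φ : MulAut K, ∃ t : Tw (OfBN.bldg P (Equiv.refl P.S) cs hcs) K, t.τ = φ := fun φ => by
    obtain ⟨t, ht, -⟩ := FixOdd.exists_tw hs (Equiv.refl P.S) cs hcs φ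
    exact ⟨t, ht⟩
  have htr : ∀ x y : K ⧸ P.B, ∃ g : K, g • x = y := fun x y => by
    induction x using QuotientGroup.induction_on with
    | _ a =>
    induction y using QuotientGroup.induction_on with
    | _ b =>
    refine ⟨b * a⁻¹, ?_⟩
    rw [FixBN.OfBN.smul_mk, inv_mul_cancel_right]
  have hab : ∀ x : K ⧸ P.B, ∀ a ∈ MulAction.stabilizer K x, ∀ b ∈ MulAction.stabilizer K x,
      a * b * a⁻¹ * b⁻¹ ∈ S.U x := by
    intro x a ha b hb
    induction x using QuotientGroup.induction_on with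
    | _ g =>
    change a * b * a⁻¹ * b⁻¹ ∈ FixBN.OfBN.UU P U (QuotientGroup.mk g)
    rw [FixBN.OfBN.mem_UU hs]
    have h1 := hT _ (FixBN.OfBN.smul_mk_eq.1 ha) _ (FixBN.OfBN.smul_mk_eq.1 hb)
    convert h1 using 1
    group
  have hex : ∀ H : Subgroup K, IsPiHall π H → ∃ x : K ⧸ P.B, S.U x ≤ H := by
    intro H hH
    obtain ⟨z, Q, -, hQ⟩ := exists_U_le S hH hpi (V := (⊥ : Subgroup K)) IsPGroup.of_bot bot_le
    exact ⟨z, by rw [hQ]; exact map_subtype_le _⟩
  classical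
  refine ⟨P.S, hI, M, rho S hth htw,
    fun H => if hH : IsPiHall π H then Ty (OfBN.bldg P (Equiv.refl P.S) cs hcs) H (hex H hH).choose else ∅,
    fun φ => rho_mem S hth htw φ, ?_, ?_, ?_⟩
  · rcases Nat.lt_or_ge 2 (Nat.card P.S) with h | h
    · right
      exact Cfsg.Agent.LieRecognition.BNCox.outcome P cs hcs (Cfsg.Agent.H967.SimpleIrr.irreducible hs) h
    · exact Or.inl h
  · intro H hH φ
    simp only [dif_pos hH]
    exact fixC_iff_rho S hth htw htr hab hpi hH (hex H hH).choose_spec φ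
  · rintro ⟨v, hv⟩ H hH
    simp only [dif_pos hH]
    exact ty_D4 S hth v hv hH (hex H hH).choose_spec

/-- **Automorphisms of odd order fix the classes of the Hall `π`-subgroups, `p ∈ π`.** -/
theorem oRow_of_abSplit {K : Type u} [Group K] {p : ℕ} [Finite K] [IsSimpleGroup K] (hp : p.Prime) (h : AbSplit p K)
    {π : Set ℕ} (hpi : p ∈ π) : ORow π K := by
  intro H hH φ hφ
  obtain ⟨I, _, M, ρ, T, h1, h2, h3, h4⟩ := exists_data' hp h hpi
  have hodd : Odd (orderOf (ρ φ)) := hφ.of_dvd_nat (orderOf_map_dvd ρ φ)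
  rw [h3 H hH φ]
  rcases h2 with h2 | h2
  · rw [odd_trivial_two h2 hodd]
    simp
  · by_cases hD : IsD4 M
    · rcases h4 hD H hH with h5 | h5
      · rw [h5, Set.image_empty]
      · rw [h5, Set.image_univ]
        exact (ρ φ).surjective.range_eq
    · rw [odd_trivial h2 hD (h1 φ) hodd]
      simp

/-- **The row `ORow` in own characteristic.** -/
theorem oRow_own {p : ℕ} (hp : p.Prime) {G : Type u} [Group G] [Finite G] [IsSimpleGroup G] (h : IsLieTypeChar p G)
    {π : Set ℕ} (hpi : p ∈ π) : ORow π G :=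
  oRow_of_abSplit hp (Cfsg.Agent.H716.SplitAb.hasSplitAb_of_lie hp h) hpi

/-- **The row `CRow` in own characteristic, `2 ∈ π`.** -/
theorem cRow_own {p : ℕ} (hp : p.Prime) {G : Type u} [Group G] [Finite G] [IsSimpleGroup G] (h : IsLieTypeChar p G)
    {π : Set ℕ} (h2 : 2 ∈ π) (hpi : p ∈ π) : Cfsg.Agent.H165.RV.CRow π G := by
  intro H hH φ hφ
  refine oRow_own hp h hpi H hH φ ?_
  have : Finite (MulAut G) := Finite.of_injective (fun f : MulAut G => (f : G → G)) DFunLike.coe_injective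
  rw [← Nat.not_even_iff_odd, even_iff_two_dvd]
  exact fun hd => hφ 2 Nat.prime_two hd h2

end Cfsg.Agent.H565.RV
end

private theorem dce_725ace0f1572 : _root_.True := by
  try have : _root_.True := by simp only [_root_.Cfsg.Agent.H565.RV.col.eq_1]
  try have : _root_.True := by simp only [_root_.Cfsg.Agent.H561.RV.Own.LR.eq_1]
  try have : _root_.True := by simp only [_root_.Cfsg.Agent.H561.RV.Own.rho.congr_simp]
  try have : _root_.True := by simp only [_root_.Cfsg.Agent.Tits.OfBN.bldg.congr_simp]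
  exact _root_.True.intro
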